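import Cfsg.Agent.Lib.PresCert.Table

/-!
# Orbits of a point stabiliser

A labelling of the points with a spanning forest certifies the orbits of a subgroup given by words.
-/

set_option autoImplicit false

namespace CfsgLib.PresCert

/-- Labels of the points with a forest: the root of each label, and for every other point a parent
and the number of a word carrying it there. -/
structure Forest where
  /-- The words generating the subgroup. -/
  words : List (List ℕ)
  /-- The label of a point. -/
  lab : ℕ → ℕ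
  /-- The distance from the root. -/
  depth : ℕ → ℕ
  /-- The parent. -/
  parent : ℕ → ℕ
  /-- The word leading from the parent. -/
  via : ℕ → ℕ
  /-- The roots. -/
  roots : List ℕ

variable (T : Tab) (F : Forest)

/-- The check at a block of 1000 points. -/
def forestBlock (b : ℕ) : Bool :=
  (List.range 1000).all fun j =>
    let p := 1000 * b + j
    !(Nat.blt p T.n) ||
      (F.words.all fun w => Nat.beq (F.lab (T.walk p w)) (F.lab p)) &&
      Nat.blt (F.lab p) F.roots.length &&
      (Nat.beq p (F.roots.getD (F.lab p) 0) ||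
        Nat.blt (F.depth (F.parent p)) (F.depth p) && Nat.blt (F.via p) F.words.length &&
          Nat.beq (F.lab (F.parent p)) (F.lab p) && Nat.blt (F.parent p) T.n &&
          Nat.beq (T.walk (F.parent p) (F.words.getD (F.via p) [])) p)

/-- The shape check. -/
def forestShape : Bool :=
  F.words.all (fun w => w.all fun g => Nat.blt g T.ng) &&
    (List.range F.roots.length).all fun k =>
      Nat.blt (F.roots.getD k 0) T.n && Nat.beq (F.lab (F.roots.getD k 0)) k

variable {T F}

/-- The checks of a forest. -/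
structure ForestOk (T : Tab) (F : Forest) : Prop where
  shape : forestShape T F = true
  blocks : ∀ b, 1000 * b < T.n → forestBlock T F b = true

theorem ForestOk.word_lt (h : ForestOk T F) {w : List ℕ} (hw : w ∈ F.words) :
    ∀ g ∈ w, g < T.ng := by
  have h1 := h.shape
  simp only [forestShape, Bool.and_eq_true, List.all_eq_true, Nat.blt_eq] at h1
  exact h1.1 w hw

theorem ForestOk.root (h : ForestOk T F) {k : ℕ} (hk : k < F.roots.length) :
    F.roots.getD k 0 < T.n ∧ F.lab (F.roots.getD k 0) = k := by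
  have h1 := h.shape
  simp only [forestShape, Bool.and_eq_true, List.all_eq_true, List.mem_range, Nat.blt_eq,
    Nat.beq_eq] at h1
  exact h1.2 k hk

theorem ForestOk.spec (h : ForestOk T F) {p : ℕ} (hp : p < T.n) :
    (∀ w ∈ F.words, F.lab (T.walk p w) = F.lab p) ∧ F.lab p < F.roots.length ∧
    (p = F.roots.getD (F.lab p) 0 ∨ ∃ q, q < T.n ∧ F.depth q < F.depth p ∧
      F.lab q = F.lab p ∧ ∃ w ∈ F.words, T.walk q w = p) := by
  have hb := h.blocks (p / 1000) (by omega)
  simp only [forestBlock, List.all_eq_true, List.mem_range, Bool.or_eq_true, Bool.and_eq_true,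
    Bool.not_eq_true', Nat.blt_eq, Nat.beq_eq] at hb
  have h' := hb (p % 1000) (Nat.mod_lt _ (by norm_num))
  rw [Nat.div_add_mod] at h'
  rcases h' with h1 | ⟨⟨h1, h2⟩, h3⟩
  · have : Nat.blt p T.n = true := by rw [Nat.blt_eq]; exact hp
    rw [this] at h1
    exact Bool.noConfusion h1
  refine ⟨h1, h2, h3.imp id fun h => ?_⟩
  obtain ⟨⟨⟨⟨a, b⟩, c⟩, d⟩, e⟩ := h
  exact ⟨_, d, a, c, _, by
    rw [List.getD_eq_getElem _ _ b]; exact List.getElem_mem _, e⟩

variable {M : Type*} [Group M] {gen : ℕ → M} {φ : M →* Equiv.Perm (Fin T.n)}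

/-- The label is invariant under the subgroup. -/
theorem ForestOk.invariant (h : ForestOk T F) (R : Realised gen T φ) {m : M}
    (hm : m ∈ genGrp F.words gen) : ∀ p : Fin T.n, F.lab (φ m p).val = F.lab p.val := by
  induction hm using Subgroup.closure_induction with
  | mem s hs =>
    obtain ⟨w, hw, rfl⟩ := hs
    intro p
    rw [R.act_apply (h.word_lt hw)]
    exact (h.spec p.isLt).1 w hw
  | one => intro p; simp
  | mul a b _ _ ha hb => intro p; rw [map_mul, Equiv.Perm.mul_apply, ha, hb]
  | inv a _ ha =>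
    intro p
    have := ha (φ a⁻¹ p)
    rw [← Equiv.Perm.mul_apply, ← map_mul, mul_inv_cancel, map_one, Equiv.Perm.one_apply] at this
    exact this.symm

/-- Every point is reached from the root of its label. -/
theorem ForestOk.reach (h : ForestOk T F) (R : Realised gen T φ) (p : Fin T.n) :
    ∃ m ∈ genGrp F.words gen,
      φ m ⟨F.roots.getD (F.lab p.val) 0, (h.root (h.spec p.isLt).2.1).1⟩ = p := by
  suffices ∀ d, ∀ p : Fin T.n, F.depth p.val = d → ∃ m ∈ genGrp F.words gen,
      φ m ⟨F.roots.getD (F.lab p.val) 0, (h.root (h.spec p.isLt).2.1).1⟩ = p from this _ p rfl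
  intro d
  induction d using Nat.strong_induction_on with
  | h d ih =>
    intro p hd
    rcases (h.spec p.isLt).2.2 with h0 | ⟨q, hq, hlt, hl, w, hw, e⟩
    · refine ⟨1, Subgroup.one_mem _, Fin.ext ?_⟩
      rw [map_one, Equiv.Perm.one_apply]
      exact h0.symm
    · obtain ⟨m, hm, hmq⟩ := ih _ (hd ▸ hlt) ⟨q, hq⟩ rfl
      refine ⟨act gen w * m, Subgroup.mul_mem _ (Subgroup.subset_closure ⟨w, hw, rfl⟩) hm,
        Fin.ext ?_⟩
      simp only [hl] at hmq
      rw [map_mul, Equiv.Perm.mul_apply, hmq, R.act_apply (h.word_lt hw)]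
      exact e

/-- The orbit of a subgroup generated by the words has as many points as carry the label. -/
theorem ForestOk.orbit_card (h : ForestOk T F) (R : Realised gen T φ) (p : Fin T.n) :
    {q : Fin T.n | ∃ m ∈ genGrp F.words gen, φ m p = q}.ncard =
      ((List.range T.n).filter fun q => Nat.beq (F.lab q) (F.lab p.val)).length := by
  classical
  rw [← List.toFinset_card_of_nodup (List.nodup_range.filter _), ← Set.ncard_coe_finset]
  refine Set.ncard_congr (fun q _ => q.val) (fun q hq => ?_) (fun a b _ _ e => Fin.ext e)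
    fun v hv => ?_
  · obtain ⟨m, hm, rfl⟩ := hq
    simp only [Finset.mem_coe, List.mem_toFinset, List.mem_filter, List.mem_range, Nat.beq_eq]
    exact ⟨Fin.isLt _, h.invariant R hm p⟩
  · simp only [Finset.mem_coe, List.mem_toFinset, List.mem_filter, List.mem_range,
      Nat.beq_eq] at hv
    obtain ⟨m, hm, hmp⟩ := h.reach R p
    obtain ⟨m', hm', hmv⟩ := h.reach R ⟨v, hv.1⟩
    refine ⟨⟨v, hv.1⟩, ⟨m' * m⁻¹, Subgroup.mul_mem _ hm' (Subgroup.inv_mem _ hm), ?_⟩, rfl⟩
    rw [map_mul, Equiv.Perm.mul_apply, map_inv, Equiv.Perm.inv_def,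
      (Equiv.symm_apply_eq _).2 hmp.symm]
    simp only [hv.2] at hmv
    exact hmv

/-- The orbits of a point stabiliser on its cosets. -/
theorem ForestOk.coset_orbit (h : ForestOk T F) (R : Realised gen T φ) (h0 : 0 < T.n)
    (hsub : genGrp F.words gen = fixSub φ [0]) (htrans : ∀ i j : Fin T.n, ∃ m, φ m i = j)
    (p : Fin T.n) :
    ∃ q : M ⧸ genGrp F.words gen,
      (MulAction.orbit (genGrp F.words gen) q).ncard =
        ((List.range T.n).filter fun i => Nat.beq (F.lab i) (F.lab p.val)).length ∧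
      ∀ m : M, (m : M ⧸ genGrp F.words gen) ∈ MulAction.orbit (genGrp F.words gen) q →
        F.lab (φ m ⟨0, h0⟩).val = F.lab p.val := by
  set z : Fin T.n := ⟨0, h0⟩ with hz
  obtain ⟨m₀, hm₀⟩ := htrans z p
  have hker : ∀ a b : M, (a : M ⧸ genGrp F.words gen) = b ↔ φ a z = φ b z := by
    intro a b
    rw [QuotientGroup.eq, hsub, mem_fixSub]
    constructor
    · intro h
      have h' := h z (List.mem_singleton.2 rfl)
      rw [map_mul, Equiv.Perm.mul_apply, map_inv, Equiv.Perm.inv_def, Equiv.symm_apply_eq] at h'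
      exact h'.symm
    · intro h i hi
      have hiz : i = z := Fin.ext (List.mem_singleton.1 hi)
      subst hiz
      rw [map_mul, Equiv.Perm.mul_apply, ← h, map_inv, Equiv.Perm.inv_def, Equiv.symm_apply_apply]
  refine ⟨(m₀ : M ⧸ genGrp F.words gen), ?_, fun m hm => ?_⟩
  · rw [← h.orbit_card R p]
    refine Set.ncard_congr (fun r _ => φ r.out z) (fun r hr => ?_) (fun a b _ _ e => ?_)
      fun v hv => ?_
    · obtain ⟨⟨a, ha⟩, rfl⟩ := hr
      refine ⟨a, ha, ?_⟩
      have e : ((((⟨a, ha⟩ : genGrp F.words gen) • (m₀ : M ⧸ genGrp F.words gen)).out : M) :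
          M ⧸ genGrp F.words gen) = ((a * m₀ : M) : M ⧸ genGrp F.words gen) :=
        QuotientGroup.out_eq' _
      rw [(hker _ _).1 e, map_mul, Equiv.Perm.mul_apply, hm₀]
    · rw [← QuotientGroup.out_eq' a, ← QuotientGroup.out_eq' b, hker]
      exact e
    · obtain ⟨a, ha, rfl⟩ := hv
      refine ⟨((a * m₀ : M) : M ⧸ genGrp F.words gen), ⟨⟨a, ha⟩, rfl⟩, ?_⟩
      show φ (((a * m₀ : M) : M ⧸ genGrp F.words gen)).out z = φ a p
      rw [(hker _ _).1 (QuotientGroup.out_eq' _), map_mul, Equiv.Perm.mul_apply, hm₀]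
  · obtain ⟨⟨a, ha⟩, e⟩ := hm
    have e' : ((a * m₀ : M) : M ⧸ genGrp F.words gen) = (m : M ⧸ genGrp F.words gen) := e
    rw [← (hker _ _).1 e', map_mul, Equiv.Perm.mul_apply, hm₀, h.invariant R ha]

end CfsgLib.PresCert
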