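import Cfsg.Agent.Lib.PresCert.Check

/-!
# Consequences of a checked certificate
-/

set_option autoImplicit false

namespace CfsgLib.PresCert

variable (D : Data)

/-- The sizes of the data. -/
def shapeOk : Bool :=
  Nat.blt 0 D.ng && Nat.blt 1 D.rm && Nat.blt 0 D.R && Nat.ble (D.cells.length * 16 * D.R) ((D.ng + 1) * D.N) &&
    Nat.beq (liveAt D 0) 0 && Nat.blt 0 D.n && wordsOk D

/-- A certificate: the shape and the slots. -/
structure Valid : Prop where
  shape : shapeOk D = true
  slots : ∀ b, 1000 * b < D.N → block D b = true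

/-- The live nodes are closed under the given words. -/
structure Closed (S : List (List ℕ)) : Prop extends Valid D where
  words : S.all (fun w => w.all fun g => Nat.blt g D.ng) = true
  closed : ∀ b, 1000 * b < D.n → closedBlock D S b = true

/-- The generators as words. -/
def letters (D : Data) : List (List ℕ) := (List.range D.ng).map fun g => [g]

variable {D}

theorem shape_spec (h : shapeOk D = true) : 0 < D.ng ∧ 1 < D.rm ∧ 0 < D.R ∧
    D.cells.length * 16 * D.R ≤ (D.ng + 1) * D.N ∧ liveAt D 0 = 0 ∧ 0 < D.n ∧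
      wordsOk D = true := by
  simp only [shapeOk, Bool.and_eq_true, Nat.blt_eq, Nat.ble_eq, Nat.beq_eq] at h
  obtain ⟨⟨⟨⟨⟨⟨a, b⟩, r⟩, c⟩, d⟩, e⟩, f⟩ := h
  exact ⟨a, b, r, c, d, e, f⟩

theorem cell_eq_zero (h : shapeOk D = true) {x g : ℕ} (hx : D.N ≤ x) : cell D x g = 0 := by
  obtain ⟨-, -, hR, hc, -⟩ := shape_spec h
  rw [cell, look]
  have h1 : D.cells.length * 16 * D.R ≤ (D.ng + 1) * x + g :=
    hc.trans ((Nat.mul_le_mul_left _ hx).trans (Nat.le_add_right _ _))
  have h2 : D.cells.length ≤ ((D.ng + 1) * x + g) / D.R / 16 := by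
    rw [Nat.div_div_eq_div_mul, Nat.le_div_iff_mul_le (by positivity)]
    linarith
  rw [List.getD_eq_default _ _ h2]
  simp

variable {M X : Type*} [Group M] [MulAction M X] {gen : ℕ → M} {x₀ : X}

theorem below_top (V : Valid D) (H : Hyp D gen x₀) : Below D gen x₀ (D.rm - 1) := by
  obtain ⟨hng, hrm, -, -, -, -, hw⟩ := shape_spec V.shape
  refine all_claims H hw hng (fun x g hg hne => ?_) _ (by omega)
  by_cases hx : x < D.N
  · have hb := V.slots (x / 1000) (by omega)
    simp only [block, List.all_eq_true, List.mem_range, Bool.or_eq_true, Bool.not_eq_true'] at hb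
    have h' := hb (x % 1000) (Nat.mod_lt _ (by norm_num))
    rw [Nat.div_add_mod] at h'
    refine (h'.resolve_left fun e => ?_) g (by omega)
    have : Nat.blt x D.N = true := by rw [Nat.blt_eq]; exact hx
    rw [this] at e
    exact Bool.noConfusion e
  · exfalso
    refine hne ?_
    rw [cell_eq_zero V.shape (by omega), rkOf, Nat.zero_div, Nat.zero_mod]
    omega

theorem word_closed {S : List (List ℕ)} (V : Closed D S) (H : Hyp D gen x₀) {i : ℕ}
    (hi : i < D.n) {w : List ℕ} (hw : w ∈ S) :
    ∃ j < D.n, act gen w • phi D gen x₀ (liveAt D i) = phi D gen x₀ (liveAt D j) := by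
  have hb := V.closed (i / 1000) (by omega)
  simp only [closedBlock, List.all_eq_true, List.mem_range, Bool.or_eq_true,
    Bool.not_eq_true'] at hb
  have h' := hb (i % 1000) (Nat.mod_lt _ (by norm_num))
  rw [Nat.div_add_mod] at h'
  have h2 := (h'.resolve_left fun e => by
    have : Nat.blt i D.n = true := by rw [Nat.blt_eq]; exact hi
    rw [this] at e
    exact Bool.noConfusion e) w hw
  have hlt := V.words
  simp only [List.all_eq_true, Nat.blt_eq] at hlt
  simp only [closedAt] at h2
  have hB := below_top V.toValid H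
  cases hs : walk D (D.rm - 1) (liveAt D i) w with
  | none => rw [hs] at h2; simp at h2
  | some f =>
    rw [hs] at h2
    simp only [Bool.and_eq_true, Nat.blt_eq, Nat.beq_eq] at h2
    refine ⟨_, h2.1, ?_⟩
    rw [walk_sound hB (hlt w hw) hs, h2.2, root_sound hB]

/-- The subgroup generated by the words. -/
def genGrp (S : List (List ℕ)) (gen : ℕ → M) : Subgroup M :=
  Subgroup.closure {m | ∃ w ∈ S, act gen w = m}

theorem orbit_subset {S : List (List ℕ)} (V : Closed D S) (H : Hyp D gen x₀) {m : M}
    (hm : m ∈ genGrp S gen) : ∃ j < D.n, m • x₀ = phi D gen x₀ (liveAt D j) := by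
  obtain ⟨-, -, -, -, h0, hn, -⟩ := shape_spec V.shape
  have hperm : ∀ w ∈ S, ∀ i < D.n, ∃ j < D.n,
      (act gen w)⁻¹ • phi D gen x₀ (liveAt D i) = phi D gen x₀ (liveAt D j) := by
    intro w hw i hi
    classical
    let P := (Finset.range D.n).image fun i => phi D gen x₀ (liveAt D i)
    have hmaps : P.image (act gen w • ·) = P := by
      refine Finset.eq_of_subset_of_card_le (fun q hq => ?_) ?_
      · obtain ⟨p, hp, rfl⟩ := Finset.mem_image.1 hq
        obtain ⟨a, ha, rfl⟩ := Finset.mem_image.1 hp
        obtain ⟨j, hj, e⟩ := word_closed V H (Finset.mem_range.1 ha) hw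
        exact Finset.mem_image.2 ⟨j, Finset.mem_range.2 hj, e.symm⟩
      · rw [Finset.card_image_of_injective _ (MulAction.injective _)]
    have hmem : phi D gen x₀ (liveAt D i) ∈ P :=
      Finset.mem_image_of_mem _ (Finset.mem_range.2 hi)
    rw [← hmaps] at hmem
    obtain ⟨p, hp, e⟩ := Finset.mem_image.1 hmem
    obtain ⟨j, hj, rfl⟩ := Finset.mem_image.1 hp
    exact ⟨j, Finset.mem_range.1 hj, by rw [← e, inv_smul_smul]⟩
  suffices h : ∀ i < D.n, ∃ j < D.n,
      m • phi D gen x₀ (liveAt D i) = phi D gen x₀ (liveAt D j) by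
    obtain ⟨j, hj, e⟩ := h 0 hn
    rw [h0, phi_zero] at e
    exact ⟨j, hj, e⟩
  induction hm using Subgroup.closure_induction_left with
  | one => exact fun i hi => ⟨i, hi, one_smul _ _⟩
  | mul_left s hs m' _ ih =>
    obtain ⟨w, hw, rfl⟩ := hs
    intro i hi
    obtain ⟨j, hj, e⟩ := ih i hi
    obtain ⟨k, hk, e'⟩ := word_closed V H hj hw
    exact ⟨k, hk, by rw [mul_smul, e, e']⟩
  | inv_mul_cancel s hs m' _ ih =>
    obtain ⟨w, hw, rfl⟩ := hs
    intro i hi
    obtain ⟨j, hj, e⟩ := ih i hi
    obtain ⟨k, hk, e'⟩ := hperm w hw j hj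
    exact ⟨k, hk, by rw [mul_smul, e, e']⟩

/-- A subgroup generated by the involutions is covered by `n` cosets of the stabiliser subgroup. -/
theorem card_le {K : Subgroup M} [Finite K] {gen : ℕ → M} {W : List (List ℕ)}
    (V : Closed D W) (H : Hyp D gen ((1 : M) : M ⧸ K)) :
    Finite (genGrp W gen) ∧ Nat.card (genGrp W gen) ≤ D.n * Nat.card K := by
  set S := genGrp W gen with hS
  let F : Fin D.n × K → M := fun p => (phi D gen ((1 : M) : M ⧸ K) (liveAt D p.1)).out * (p.2 : M)
  have hcov : ∀ m ∈ S, m ∈ Set.range F := by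
    intro m hm
    obtain ⟨j, hj, e⟩ := orbit_subset V H hm
    rw [MulAction.Quotient.smul_coe, smul_eq_mul, mul_one] at e
    set q := phi D gen ((1 : M) : M ⧸ K) (liveAt D j) with hq
    have : q.out⁻¹ * m ∈ K := by
      rw [← QuotientGroup.eq, QuotientGroup.out_eq', e]
    exact ⟨(⟨j, hj⟩, ⟨_, this⟩), by simp [F, ← hq]⟩
  let f : S → Fin D.n × K := fun m => (hcov m m.2).choose
  have hf : Function.Injective f := by
    intro a b h
    have ha := (hcov a a.2).choose_spec
    have hb := (hcov b b.2).choose_spec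
    exact Subtype.ext (ha.symm.trans ((congrArg F h).trans hb))
  refine ⟨Finite.of_injective f hf, ?_⟩
  calc Nat.card S ≤ Nat.card (Fin D.n × K) := Nat.card_le_card_of_injective f hf
    _ = D.n * Nat.card K := by rw [Nat.card_prod, Nat.card_fin]

/-- The index is at most the number of points when the involutions generate. -/
theorem index_le {K : Subgroup M} {gen : ℕ → M} {W : List (List ℕ)} (htop : genGrp W gen = ⊤)
    (V : Closed D W) (H : Hyp D gen ((1 : M) : M ⧸ K)) : K.index ≠ 0 ∧ K.index ≤ D.n := by
  let F : Fin D.n → M ⧸ K := fun j => phi D gen ((1 : M) : M ⧸ K) (liveAt D j)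
  have hF : Function.Surjective F := by
    intro q
    obtain ⟨m, rfl⟩ := QuotientGroup.mk_surjective q
    obtain ⟨j, hj, e⟩ := orbit_subset V H (m := m) (htop ▸ Subgroup.mem_top m)
    rw [MulAction.Quotient.smul_coe, smul_eq_mul, mul_one] at e
    exact ⟨⟨j, hj⟩, e.symm⟩
  haveI : Finite (M ⧸ K) := Finite.of_surjective F hF
  refine ⟨Subgroup.index_ne_zero_of_finite, ?_⟩
  rw [Subgroup.index_eq_card]
  exact (Nat.card_le_card_of_surjective F hF).trans_eq (Nat.card_fin _)

/-- A word is trivial at the first point if its walk closes. -/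
theorem word_fix (V : Valid D) (H : Hyp D gen x₀) {w : List ℕ} (hw : ∀ g ∈ w, g < D.ng)
    (h : endsAt D (D.rm - 1) (walk D (D.rm - 1) 0 w) 0 = true) : act gen w • x₀ = x₀ := by
  obtain ⟨f, hf, e⟩ := endsAt_sound (below_top V H) h
  have := walk_sound (below_top V H) hw hf
  rwa [e, phi_zero] at this

/-! ### The hypotheses on the words -/

/-- The product read with involutions: rotations and reversals stay trivial. -/
theorem act_rotate {w : List ℕ} (h : act gen w = 1) (k : ℕ) : act gen (w.rotate k) = 1 := by
  rw [List.rotate_eq_drop_append_take_mod, act_append]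
  rw [← List.take_append_drop (k % w.length) w, act_append] at h
  exact mul_eq_one_comm.1 h

theorem act_reverse {ng : ℕ} (hinv : ∀ g, g < ng → gen g * gen g = 1) :
    ∀ {w : List ℕ}, (∀ g ∈ w, g < ng) → act gen w.reverse = (act gen w)⁻¹
  | [], _ => by simp [act_nil]
  | g :: w, hw => by
    rw [List.reverse_cons, act_append, act_cons, act_cons, act_nil, one_mul,
      act_reverse hinv (fun a ha => hw a (by simp [ha])), mul_inv_rev,
      inv_eq_of_mul_eq_one_right (hinv g (hw g (by simp)))]

/-- The check that the unmarked words are rotations of the given relators or trivial. -/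
def relsOk (D : Data) (rels : List (List ℕ)) : Bool :=
  rels.all (fun w => w.all fun g => Nat.blt g D.ng) &&
  (List.range D.nrel).all fun r =>
    let w := (wordAt D r).1 ++ (if (wordAt D r).2.1 < D.ng then [(wordAt D r).2.1] else []) ++
      (wordAt D r).2.2
    decide (w = []) || rels.any fun v => (List.range (v.length + 1)).any fun k =>
      decide (w = v.rotate k) || decide (w = (v.reverse).rotate k)

/-- The check that the marked words are among the subgroup words. -/
def subsOk (D : Data) (subs : List (List ℕ)) (total : ℕ) : Bool :=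
  (List.range total).all fun r => Nat.blt r D.nrel ||
    let w := (wordAt D r).1 ++ (if (wordAt D r).2.1 < D.ng then [(wordAt D r).2.1] else []) ++
      (wordAt D r).2.2
    decide (w = []) || subs.any fun v => decide (w = v)

theorem hyp_of_checks {rels subs : List (List ℕ)}
    (hinv : ∀ g, g < D.ng → gen g * gen g = 1)
    (hrels : ∀ w ∈ rels, act gen w = 1) (hsubs : ∀ w ∈ subs, act gen w • x₀ = x₀)
    (h1 : relsOk D rels = true) (h2 : subsOk D subs (16 * D.words.length) = true) :
    Hyp D gen x₀ := by
  simp only [relsOk, Bool.and_eq_true, List.all_eq_true, Nat.blt_eq, List.mem_range, Bool.or_eq_true,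
    decide_eq_true_eq, List.any_eq_true] at h1
  obtain ⟨hl, h1⟩ := h1
  refine ⟨hinv, fun r hr x => ?_, fun r hr => ?_⟩
  · have key : act gen ((wordAt D r).1 ++
        (if (wordAt D r).2.1 < D.ng then [(wordAt D r).2.1] else []) ++ (wordAt D r).2.2) = 1 := by
      rcases h1 r hr with e | ⟨v, hv, k, -, e | e⟩
      · rw [e, act_nil]
      · rw [e]; exact act_rotate (hrels v hv) k
      · rw [e]
        refine act_rotate ?_ k
        rw [act_reverse hinv (hl v hv), hrels v hv, inv_one]
    rw [key, one_smul]
  · simp only [subsOk, List.all_eq_true, List.mem_range, Bool.or_eq_true, Nat.blt_eq,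
      decide_eq_true_eq, List.any_eq_true] at h2
    by_cases ht : r < 16 * D.words.length
    · rcases h2 r ht with e | e | ⟨v, hv, e⟩
      · omega
      · rw [e, act_nil, one_smul]
      · rw [e]; exact hsubs v hv
    · have e : wordAt D r = ([], D.ng, []) := by
        rw [wordAt, List.getD_eq_default _ _ (show D.words.length ≤ r / 16 by omega)]
        rfl
      rw [e]
      simp [act_nil]

end CfsgLib.PresCert
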