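import Cfsg.Agent.Lib.PresCert.Table

/-!
# Elements carrying one word to another, along a base adapted to the first word

When the base runs backwards along a cycle of a word, an element of the point stabiliser that carries
the word to a second one is given by the image of the first base point.
-/

set_option autoImplicit false

namespace CfsgLib.PresCert

/-- The word of a product of listed words. -/
def expand (W : List (List ℕ)) (p : List ℕ) : List ℕ := p.flatMap fun a => W.getD a []

/-- A power of a word. -/
def repWord : ℕ → List ℕ → List ℕ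
  | 0, _ => []
  | n + 1, p => p ++ repWord n p

variable (T : Tab)

/-- Two words act alike on the first point and the base. -/
def eqBase (ls : List Level) (p q : List ℕ) : Bool :=
  (0 :: ls.map Level.base).all fun i => Nat.beq (T.walk i p) (T.walk i q)

/-- The words use the generators. -/
def wordsLt (ws : List (List ℕ)) : Bool := ws.all fun w => w.all fun g => Nat.blt g T.ng

/-- The images of the base under an element carrying a word to `z`, given the first one. -/
def chainOf (z : List ℕ) : ℕ → ℕ → List ℕ
  | 0, _ => []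
  | n + 1, y => y :: chainOf z n (T.walk y z.reverse)

/-- The base runs backwards along the word. -/
def chainBase (zw : List ℕ) (ls : List Level) : Bool :=
  decide (chainOf T zw ls.length ((ls.getD 0 ⟨0, [], [], []⟩).base) = ls.map Level.base) &&
    Nat.blt 1 ls.length

/-- The possible images of the first base point; `mask` has the bits of the second orbit. -/
def chainSurvivors (z : List ℕ) (ls : List Level) (mask : ℕ) : List ℕ :=
  let l := ls.getD 0 ⟨0, [], [], []⟩
  ((List.range l.pts.length).filter fun k =>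
    mask.testBit (T.walk (T.walk (l.pts.getD k 0) z.reverse) (l.word (k + 1) k).reverse) &&
      !(noElement T ls (chainOf T z ls.length (l.pts.getD k 0)))).map fun k => l.pts.getD k 0

/-- The listed elements are all elements of the point stabiliser carrying `zw` to `z`. -/
def conjListOk (zw z : List ℕ) (ls : List Level) (mask : ℕ) (sols : List (List ℕ)) : Bool :=
  wordsLt T (z :: sols) &&
    sols.all (fun c => eqBase T ls (zw ++ c) (c ++ z) && Nat.beq (T.walk 0 c) 0) &&
    nodupB 0 (sols.map fun c => T.walk (ls.getD 0 ⟨0, [], [], []⟩).base c) &&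
    (ls.getD 1 ⟨0, [], [], []⟩).pts.all (fun q => mask.testBit q) &&
    Nat.ble (chainSurvivors T z ls mask).length sols.length

variable {T}

section act

variable {M : Type*} [Group M]

theorem act_expand (gen : ℕ → M) (W : List (List ℕ)) : ∀ p : List ℕ,
    act gen (expand W p) = act (fun a => act gen (W.getD a [])) p
  | [] => rfl
  | a :: p => by
    rw [expand, List.flatMap_cons, act_append, act_cons]
    exact congrArg (· * _) (act_expand gen W p)

theorem act_repWord (gen : ℕ → M) (p : List ℕ) : ∀ n : ℕ, act gen (repWord n p) = act gen p ^ n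
  | 0 => by simp [repWord, act_nil]
  | n + 1 => by rw [repWord, act_append, act_repWord gen p n, pow_succ]

theorem map_act {N : Type*} [Group N] (f : M →* N) (gen : ℕ → M) : ∀ p : List ℕ,
    f (act gen p) = act (fun a => f (gen a)) p
  | [] => map_one f
  | a :: p => by rw [act_cons, act_cons, map_mul, map_act f gen p]

theorem act_congr' {gen gen' : ℕ → M} : ∀ {p : List ℕ}, (∀ a ∈ p, gen a = gen' a) →
    act gen p = act gen' p
  | [], _ => rfl
  | a :: p, h => by
    rw [act_cons, act_cons, act_congr' fun b hb => h b (List.mem_cons_of_mem _ hb),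
      h a List.mem_cons_self]

theorem act_mem_of {S : Subgroup M} {gen : ℕ → M} (h : ∀ a, gen a ∈ S) :
    ∀ p : List ℕ, act gen p ∈ S
  | [] => S.one_mem
  | a :: p => by rw [act_cons]; exact S.mul_mem (act_mem_of h p) (h a)

end act

theorem wordsLt_spec {ws : List (List ℕ)} (h : wordsLt T ws = true) :
    ∀ w ∈ ws, ∀ g ∈ w, g < T.ng := by
  simp only [wordsLt, List.all_eq_true, Nat.blt_eq] at h
  exact h

theorem lt_expand {W : List (List ℕ)} (hW : ∀ w ∈ W, ∀ g ∈ w, g < T.ng) (p : List ℕ) :
    ∀ g ∈ expand W p, g < T.ng := by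
  intro g hg
  obtain ⟨a, -, h⟩ := List.mem_flatMap.1 hg
  by_cases ha : a < W.length
  · rw [List.getD_eq_getElem _ _ ha] at h
    exact hW _ (List.getElem_mem ha) g h
  · rw [List.getD_eq_default _ _ (by omega)] at h
    exact absurd h List.not_mem_nil

theorem lt_append {p q : List ℕ} (hp : ∀ g ∈ p, g < T.ng) (hq : ∀ g ∈ q, g < T.ng) :
    ∀ g ∈ p ++ q, g < T.ng := fun g hg => by
  rcases List.mem_append.1 hg with h | h
  exacts [hp g h, hq g h]

theorem lt_repWord {p : List ℕ} (hp : ∀ g ∈ p, g < T.ng) : ∀ n, ∀ g ∈ repWord n p, g < T.ng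
  | 0 => fun _ h => absurd h List.not_mem_nil
  | n + 1 => lt_append hp (lt_repWord hp n)

variable {M : Type*} [Group M] [Finite M] {gen : ℕ → M} {φ : M →* Equiv.Perm (Fin T.n)}
  (R : Realised gen T φ) {ls : List Level}

include R

/-- Words acting alike on the base give the same element. -/
theorem eq_of_eqBase (hbot : fixSub φ ([0] ++ ls.map Level.base) = ⊥) {p q : List ℕ}
    (hp : ∀ g ∈ p, g < T.ng) (hq : ∀ g ∈ q, g < T.ng) (h : eqBase T ls p q = true) :
    act gen p = act gen q := by
  simp only [eqBase, List.all_eq_true, Nat.beq_eq] at h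
  have hmem : (act gen q)⁻¹ * act gen p ∈ fixSub φ ([0] ++ ls.map Level.base) := by
    intro i hi
    rw [map_mul, Equiv.Perm.mul_apply, map_inv, Equiv.Perm.inv_def, Equiv.symm_apply_eq]
    exact Fin.ext (by rw [R.act_apply hp, R.act_apply hq, h i.val hi])
  rw [hbot, Subgroup.mem_bot, inv_mul_eq_one] at hmem
  exact hmem.symm

/-- Equal elements act alike on the base. -/
theorem eqBase_of_eq (hb : ∀ i ∈ 0 :: ls.map Level.base, i < T.n) {p q : List ℕ}
    (hp : ∀ g ∈ p, g < T.ng) (hq : ∀ g ∈ q, g < T.ng) (h : act gen p = act gen q) :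
    eqBase T ls p q = true := by
  simp only [eqBase, List.all_eq_true, Nat.beq_eq]
  intro i hi
  rw [← R.act_apply hp ⟨i, hb i hi⟩, h, R.act_apply hq]

theorem chainOf_forall (hinv : ∀ g, g < T.ng → gen g * gen g = 1) {zw z : List ℕ}
    (hzw : ∀ g ∈ zw, g < T.ng) (hz : ∀ g ∈ z, g < T.ng) {m : M}
    (hm : m * act gen zw = act gen z * m) : ∀ (n : ℕ) (b : Fin T.n),
    List.Forall₂ (fun l q => ∀ i : Fin T.n, i.val = l → ((φ m i : Fin T.n) : ℕ) = q)
      (chainOf T zw n b.val) (chainOf T z n (φ m b).val)
  | 0, _ => List.Forall₂.nil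
  | n + 1, b => by
    refine List.Forall₂.cons (fun i hi => by rw [Fin.ext hi]) ?_
    rw [walk_reverse R hinv hzw, walk_reverse R hinv hz, ← Equiv.Perm.mul_apply, ← map_mul]
    have e : (act gen z)⁻¹ * m = m * (act gen zw)⁻¹ := by
      rw [inv_mul_eq_iff_eq_mul, ← mul_assoc, ← hm, mul_inv_cancel_right]
    rw [e, map_mul, Equiv.Perm.mul_apply]
    exact chainOf_forall hinv hzw hz hm n _

omit R in
theorem chainOf_length (z : List ℕ) : ∀ (n y : ℕ), (chainOf T z n y).length = n
  | 0, _ => rfl
  | n + 1, y => by rw [chainOf, List.length_cons, chainOf_length z n]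

/-- The certified list holds every element of the point stabiliser carrying the word to `z`. -/
theorem conjList_complete (hinv : ∀ g, g < T.ng → gen g * gen g = 1) {zw z : List ℕ}
    (hzw : ∀ g ∈ zw, g < T.ng) (hok : levelsOk T [0] ls = true)
    (hle : Nat.card (fixSub φ [0]) ≤ (ls.map fun l => l.pts.length).prod)
    (hchain : chainBase T zw ls = true) {mask : ℕ} {sols : List (List ℕ)}
    (hlist : conjListOk T zw z ls mask sols = true) {m : M} (h0 : m ∈ fixSub φ [0])
    (hm : m * act gen zw = act gen z * m) : ∃ c ∈ sols, m = act gen c := by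
  simp only [chainBase, Bool.and_eq_true, decide_eq_true_eq, Nat.blt_eq] at hchain
  simp only [conjListOk, Bool.and_eq_true, List.all_eq_true, Nat.beq_eq, Nat.ble_eq] at hlist
  obtain ⟨⟨⟨⟨hlt, hsol⟩, hnd'⟩, hmask⟩, hlen⟩ := hlist
  have hlt := wordsLt_spec hlt
  have hz := hlt z List.mem_cons_self
  have hbot := (base_tight R hok hle).2
  obtain ⟨l, l2, ls2, hls⟩ : ∃ l l2 ls2, ls = l :: l2 :: ls2 := by
    rcases ls with _ | ⟨a, _ | ⟨b, c⟩⟩
    · simp at hchain
    · simp at hchain
    · exact ⟨a, b, c, rfl⟩
  have hl1 : ls.getD 1 ⟨0, [], [], []⟩ = l2 := by rw [hls]; rfl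
  rw [hl1] at hmask
  have hl0 : ls.getD 0 ⟨0, [], [], []⟩ = l := by rw [hls]; rfl
  have hlb : l.base < T.n := by
    have h := hok
    rw [hls] at h
    simp only [levelsOk, levelOk, Bool.and_eq_true, List.all_eq_true, decide_eq_true_eq,
      Nat.blt_eq] at h
    obtain ⟨⟨⟨⟨⟨⟨-, hhead⟩, -⟩, -⟩, hl'⟩, -⟩, -⟩ := h
    exact hl' _ (List.mem_of_mem_head? hhead)
  set b : Fin T.n := ⟨l.base, hlb⟩ with hb
  rw [hl0] at hchain hnd'
  have key : ∀ m' : M, m' ∈ fixSub φ [0] → m' * act gen zw = act gen z * m' →
      (φ m' b).val ∈ chainSurvivors T z ls mask := by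
    intro m' h0' hm'
    obtain ⟨hmem, hle2⟩ := orbit_exact R hok hle m' h0' l (l2 :: ls2) hls b rfl
    obtain ⟨k, hk, hky⟩ := List.getElem_of_mem hmem
    have hkd : l.pts.getD k 0 = (φ m' b).val := by rw [List.getD_eq_getElem _ _ hk, hky]
    unfold chainSurvivors
    dsimp only
    rw [hl0]
    refine List.mem_map.2 ⟨k, List.mem_filter.2 ⟨List.mem_range.2 hk, ?_⟩, hkd⟩
    rw [Bool.and_eq_true, Bool.not_eq_true', Bool.eq_false_iff, hkd]
    refine ⟨?_, fun hno => noElement_sound R hinv hok hle hno m' h0' ?_⟩
    · -- the image of the second base point lies in its orbit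
      have hok' := hok
      rw [hls] at hok'
      simp only [levelsOk, Bool.and_eq_true] at hok'
      obtain ⟨w1, w2, w3⟩ := level_spec R hok'.1 k hk (k + 1) (Nat.lt_succ_self _)
      set g := act gen (l.word (k + 1) k) with hg
      have hfix : g⁻¹ * m' ∈ fixSub φ ([0] ++ [l.base]) := by
        intro i hi
        rcases List.mem_append.1 hi with hi | hi
        · exact Subgroup.mul_mem _ (Subgroup.inv_mem _ w2) h0' i hi
        · have ei : i = b := Fin.ext (List.mem_singleton.1 hi)
          subst ei
          rw [map_mul, Equiv.Perm.mul_apply, map_inv, Equiv.Perm.inv_def, Equiv.symm_apply_eq]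
          exact Fin.ext (by rw [hg, R.act_apply w1]; exact (w3.trans hkd).symm)
      have hrest : levelsOk T ([0] ++ [l.base]) (l2 :: ls2) = true := by
        simp only [levelsOk, Bool.and_eq_true]; exact hok'.2
      have hb2 : T.walk l.base zw.reverse = l2.base := by
        have e := hchain.1
        rw [hls] at e
        simp only [List.length_cons, chainOf, List.map_cons, List.cons.injEq] at e
        exact e.2.1
      set b2 : Fin T.n := φ (act gen zw)⁻¹ b with hb2'
      have hb2v : b2.val = l2.base := by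
        rw [hb2', ← walk_reverse R hinv hzw]; exact hb2
      obtain ⟨hmem2, -⟩ := orbit_exact R hrest hle2 _ hfix l2 ls2 rfl b2 hb2v
      have e : (act gen z)⁻¹ * m' = m' * (act gen zw)⁻¹ := by
        rw [inv_mul_eq_iff_eq_mul, ← mul_assoc, ← hm', mul_inv_cancel_right]
      rw [map_mul, Equiv.Perm.mul_apply, hb2', ← Equiv.Perm.mul_apply (φ m'), ← map_mul, ← e,
        map_mul, Equiv.Perm.mul_apply, hg, ← walk_reverse R hinv w1, ← walk_reverse R hinv hz]
        at hmem2
      exact hmask _ hmem2
    rw [chainOf_length, List.take_of_length_le (by rw [List.length_map]), ← hchain.1]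
    exact chainOf_forall R hinv hzw hz hm' _ b
  have hdet : ∀ c ∈ sols, act gen c ∈ fixSub φ [0] ∧
      act gen c * act gen zw = act gen z * act gen c := by
    intro c hc
    have hc' := hlt c (List.mem_cons_of_mem _ hc)
    refine ⟨fun i hi => Fin.ext ?_, ?_⟩
    · rw [R.act_apply hc', List.mem_singleton.1 hi, (hsol c hc).2]
    · rw [← act_append, ← act_append]
      exact eq_of_eqBase R hbot (lt_append hzw hc') (lt_append hc' hz) (hsol c hc).1
  have hnd := (nodupB_spec hnd').1
  have hsub : sols.map (fun c => T.walk l.base c) ⊆ chainSurvivors T z ls mask := by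
    intro y hy
    obtain ⟨c, hc, rfl⟩ := List.mem_map.1 hy
    obtain ⟨e1, e2⟩ := hdet c hc
    have e3 := key _ e1 e2
    rwa [R.act_apply (hlt c (List.mem_cons_of_mem _ hc))] at e3
  have hperm : (sols.map fun c => T.walk l.base c).Perm (chainSurvivors T z ls mask) :=
    (hnd.subperm hsub).perm_of_length_le (by rw [List.length_map]; exact hlen)
  obtain ⟨c, hc, hy⟩ := List.mem_map.1 (hperm.mem_iff.2 (key m h0 hm))
  obtain ⟨e1, e2⟩ := hdet c hc
  refine ⟨c, hc, ?_⟩
  -- the two elements agree on the base
  have h1 := chainOf_forall R hinv hzw hz hm ls.length b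
  have h2 := chainOf_forall R hinv hzw hz e2 ls.length b
  have e3 : ((φ (act gen c) b : Fin T.n) : ℕ) = (φ m b).val :=
    (R.act_apply (hlt c (List.mem_cons_of_mem _ hc)) b).trans hy
  rw [e3] at h2
  rw [hb, hchain.1] at h1 h2
  have same : ∀ {bs qs : List ℕ},
      List.Forall₂ (fun l q => ∀ i : Fin T.n, i.val = l → ((φ m i : Fin T.n) : ℕ) = q) bs qs →
      List.Forall₂ (fun l q => ∀ i : Fin T.n, i.val = l →
        ((φ (act gen c) i : Fin T.n) : ℕ) = q) bs qs →
      ∀ i : Fin T.n, i.val ∈ bs → φ m i = φ (act gen c) i := by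
    intro bs qs g1
    induction g1 with
    | nil => intro _ i hi; exact absurd hi List.not_mem_nil
    | cons ha _ ih =>
      intro g2 i hi
      obtain ⟨hb', ht⟩ := List.forall₂_cons.1 g2
      rcases List.mem_cons.1 hi with hi | hi
      · exact Fin.ext ((ha i hi).trans (hb' i hi).symm)
      · exact ih ht i hi
  have hmem : m⁻¹ * act gen c ∈ fixSub φ ([0] ++ ls.map Level.base) := by
    intro i hi
    rw [map_mul, Equiv.Perm.mul_apply, map_inv, Equiv.Perm.inv_def, Equiv.symm_apply_eq]
    rcases List.mem_append.1 hi with hi | hi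
    · rw [h0 i hi, e1 i hi]
    · exact (same h1 h2 i hi).symm
  rw [hbot, Subgroup.mem_bot, inv_mul_eq_one] at hmem
  exact hmem

end CfsgLib.PresCert
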