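import Cfsg.Agent.Lib.PresCert.Chain

/-!
# Elements carrying one word to another, when only an initial part of the base runs along the word

The listed elements then represent all such elements up to the pointwise stabiliser of that part.
-/

set_option autoImplicit false

namespace CfsgLib.PresCert

variable (T : Tab)

/-- The first `k` base points run backwards along the word. -/
def chainPrefix (zw : List ℕ) (ls : List Level) (k : ℕ) : Bool :=
  decide (chainOf T zw k ((ls.getD 0 ⟨0, [], [], []⟩).base) = (ls.map Level.base).take k) &&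
    Nat.blt 1 k && Nat.ble k ls.length

/-- The first-level point of index `j` is the image under a listed element or of none; `mask` has the
bits of the second orbit. -/
def prefixRow (z : List ℕ) (ls : List Level) (k mask : ℕ) (ys : List ℕ) (j : ℕ) : Bool :=
  let l := ls.getD 0 ⟨0, [], [], []⟩
  let y := l.pts.getD j 0
  !(Nat.blt j l.pts.length) ||
    !(mask.testBit (T.walk (T.walk y z.reverse) (l.word (j + 1) j).reverse)) ||
    noElement T ls (chainOf T z k y) || ys.any (fun a => Nat.beq a y)

/-- Consecutive rows. -/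
def prefixRows (z : List ℕ) (ls : List Level) (k mask : ℕ) (ys : List ℕ) (lo len : ℕ) : Bool :=
  (List.range len).all fun i => prefixRow T z ls k mask ys (lo + i)

/-- The listed elements fix the first point, carry `zw` to `z` and have the listed images. -/
def prefixSolsOk (zw z : List ℕ) (ls : List Level) (mask : ℕ) (ys : List ℕ)
    (sols : List (List ℕ)) : Bool :=
  wordsLt T (z :: sols) &&
    sols.all (fun c => eqBase T ls (zw ++ c) (c ++ z) && Nat.beq (T.walk 0 c) 0) &&
    decide (sols.map (fun c => T.walk (ls.getD 0 ⟨0, [], [], []⟩).base c) = ys) &&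
    (ls.getD 1 ⟨0, [], [], []⟩).pts.all (fun q => mask.testBit q)

theorem prefixRows_spec {z : List ℕ} {ls : List Level} {k mask : ℕ} {ys : List ℕ} {lo len : ℕ}
    (h : prefixRows T z ls k mask ys lo len = true) {j : ℕ} (h1 : lo ≤ j) (h2 : j < lo + len) :
    prefixRow T z ls k mask ys j = true := by
  simp only [prefixRows, List.all_eq_true, List.mem_range] at h
  have := h (j - lo) (by omega)
  rwa [show lo + (j - lo) = j by omega] at this

variable {T}

variable {M : Type*} [Group M] [Finite M] {gen : ℕ → M} {φ : M →* Equiv.Perm (Fin T.n)}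
  (R : Realised gen T φ) {ls : List Level}

include R

/-- Every element of the point stabiliser carrying the word to `z` agrees with a listed one on the
chained part of the base. -/
theorem prefixList_complete (hinv : ∀ g, g < T.ng → gen g * gen g = 1) {zw z : List ℕ}
    (hzw : ∀ g ∈ zw, g < T.ng) (hok : levelsOk T [0] ls = true)
    (hle : Nat.card (fixSub φ [0]) ≤ (ls.map fun l => l.pts.length).prod) {k mask : ℕ}
    (hchain : chainPrefix T zw ls k = true) {sols : List (List ℕ)}
    {ys : List ℕ}
    (hlist : prefixSolsOk T zw z ls mask ys sols = true)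
    (hrows : ∀ j < (ls.getD 0 ⟨0, [], [], []⟩).pts.length, prefixRow T z ls k mask ys j = true)
    {m : M} (h0 : m ∈ fixSub φ [0])
    (hm : m * act gen zw = act gen z * m) :
    ∃ c ∈ sols, (act gen c)⁻¹ * m ∈ fixSub φ ([0] ++ (ls.map Level.base).take k) := by
  simp only [chainPrefix, Bool.and_eq_true, decide_eq_true_eq, Nat.blt_eq, Nat.ble_eq] at hchain
  obtain ⟨⟨hch, hk1⟩, hkl⟩ := hchain
  simp only [prefixSolsOk, Bool.and_eq_true, List.all_eq_true, Nat.beq_eq, decide_eq_true_eq] at hlist
  obtain ⟨⟨⟨hlt, hsol⟩, hys⟩, hmask⟩ := hlist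
  have hlt := wordsLt_spec hlt
  have hz := hlt z List.mem_cons_self
  have hbot := (base_tight R hok hle).2
  obtain ⟨l, l2, ls2, hls⟩ : ∃ l l2 ls2, ls = l :: l2 :: ls2 := by
    rcases ls with _ | ⟨a, _ | ⟨b, c⟩⟩
    · simp at hkl; omega
    · simp at hkl; omega
    · exact ⟨a, b, c, rfl⟩
  have hl0 : ls.getD 0 ⟨0, [], [], []⟩ = l := by rw [hls]; rfl
  have hl1 : ls.getD 1 ⟨0, [], [], []⟩ = l2 := by rw [hls]; rfl
  rw [hl1] at hmask
  have hlb : l.base < T.n := by
    have h := hok
    rw [hls] at h
    simp only [levelsOk, levelOk, Bool.and_eq_true, List.all_eq_true, decide_eq_true_eq,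
      Nat.blt_eq] at h
    obtain ⟨⟨⟨⟨⟨⟨-, hhead⟩, -⟩, -⟩, hl'⟩, -⟩, -⟩ := h
    exact hl' _ (List.mem_of_mem_head? hhead)
  set b : Fin T.n := ⟨l.base, hlb⟩ with hb
  rw [hl0] at hch hys hrows
  obtain ⟨k', rfl⟩ : ∃ a, k = a + 2 := ⟨k - 2, by omega⟩
  have key : ∀ m' : M, m' ∈ fixSub φ [0] → m' * act gen zw = act gen z * m' →
      (φ m' b).val ∈ ys := by
    intro m' h0' hm'
    obtain ⟨hmem, hle2⟩ := orbit_exact R hok hle m' h0' l (l2 :: ls2) hls b rfl
    obtain ⟨j, hj, hjy⟩ := List.getElem_of_mem hmem
    have hjd : l.pts.getD j 0 = (φ m' b).val := by rw [List.getD_eq_getElem _ _ hj, hjy]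
    have hr := hrows j hj
    unfold prefixRow at hr
    dsimp only at hr
    rw [hl0, hjd] at hr
    simp only [Bool.or_eq_true, Bool.not_eq_true', List.any_eq_true, Nat.beq_eq] at hr
    rcases hr with ((h1 | h1) | hno) | ⟨a, ha, rfl⟩
    · have : Nat.blt j l.pts.length = true := by rw [Nat.blt_eq]; exact hj
      rw [this] at h1
      exact Bool.noConfusion h1
    rotate_left
    · refine absurd ?_ (noElement_sound R hinv hok hle hno m' h0')
      rw [chainOf_length, ← hch]
      exact chainOf_forall R hinv hzw hz hm' _ b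
    · exact ha
    refine absurd h1 (Bool.eq_false_iff.not.2 (not_not.2 ?_))
    · have hok' := hok
      rw [hls] at hok'
      simp only [levelsOk, Bool.and_eq_true] at hok'
      obtain ⟨w1, w2, w3⟩ := level_spec R hok'.1 j hj (j + 1) (Nat.lt_succ_self _)
      set g := act gen (l.word (j + 1) j) with hg
      have hfix : g⁻¹ * m' ∈ fixSub φ ([0] ++ [l.base]) := by
        intro i hi
        rcases List.mem_append.1 hi with hi | hi
        · exact Subgroup.mul_mem _ (Subgroup.inv_mem _ w2) h0' i hi
        · have ei : i = b := Fin.ext (List.mem_singleton.1 hi)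
          subst ei
          rw [map_mul, Equiv.Perm.mul_apply, map_inv, Equiv.Perm.inv_def, Equiv.symm_apply_eq]
          exact Fin.ext (by rw [hg, R.act_apply w1]; exact (w3.trans hjd).symm)
      have hrest : levelsOk T ([0] ++ [l.base]) (l2 :: ls2) = true := by
        simp only [levelsOk, Bool.and_eq_true]; exact hok'.2
      have hb2 : T.walk l.base zw.reverse = l2.base := by
        have e := hch
        rw [hls] at e
        simp only [chainOf, List.map_cons, List.take_succ_cons, List.cons.injEq] at e
        exact e.2.1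
      set b2 : Fin T.n := φ (act gen zw)⁻¹ b with hb2'
      have hb2v : b2.val = l2.base := by
        rw [hb2', ← walk_reverse R hinv hzw]; exact hb2
      obtain ⟨hmem2, -⟩ := orbit_exact R hrest hle2 _ hfix l2 ls2 rfl b2 hb2v
      have e : (act gen z)⁻¹ * m' = m' * (act gen zw)⁻¹ := by
        rw [inv_mul_eq_iff_eq_mul, ← mul_assoc, ← hm', mul_inv_cancel_right]
      rw [map_mul, Equiv.Perm.mul_apply, hb2', ← Equiv.Perm.mul_apply (φ m'), ← map_mul, ← e,
        map_mul, Equiv.Perm.mul_apply, hg, ← walk_reverse R hinv w1, ← walk_reverse R hinv hz]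
        at hmem2
      exact hmask _ hmem2
  have hdet : ∀ c ∈ sols, act gen c ∈ fixSub φ [0] ∧
      act gen c * act gen zw = act gen z * act gen c := by
    intro c hc
    have hc' := hlt c (List.mem_cons_of_mem _ hc)
    refine ⟨fun i hi => Fin.ext ?_, ?_⟩
    · rw [R.act_apply hc', List.mem_singleton.1 hi, (hsol c hc).2]
    · rw [← act_append, ← act_append]
      exact eq_of_eqBase R hbot (lt_append hzw hc') (lt_append hc' hz) (hsol c hc).1
  obtain ⟨c, hc, hy⟩ := List.mem_map.1 (hys.symm ▸ key m h0 hm)
  obtain ⟨e1, e2⟩ := hdet c hc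
  refine ⟨c, hc, ?_⟩
  have h1 := chainOf_forall R hinv hzw hz hm (k' + 2) b
  have h2 := chainOf_forall R hinv hzw hz e2 (k' + 2) b
  have e3 : ((φ (act gen c) b : Fin T.n) : ℕ) = (φ m b).val :=
    (R.act_apply (hlt c (List.mem_cons_of_mem _ hc)) b).trans hy
  rw [e3] at h2
  rw [hb, hch] at h1 h2
  have same : ∀ {bs qs : List ℕ},
      List.Forall₂ (fun l q => ∀ i : Fin T.n, i.val = l → ((φ m i : Fin T.n) : ℕ) = q) bs qs →
      List.Forall₂ (fun l q => ∀ i : Fin T.n, i.val = l →
        ((φ (act gen c) i : Fin T.n) : ℕ) = q) bs qs →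
      ∀ i : Fin T.n, i.val ∈ bs → φ m i = φ (act gen c) i := by
    intro bs qs g1
    induction g1 with
    | nil => intro _ i hi; exact absurd hi List.not_mem_nil
    | cons ha _ ih =>
      intro g2 i hi
      obtain ⟨hb', ht⟩ := List.forall₂_cons.1 g2
      rcases List.mem_cons.1 hi with hi | hi
      · exact Fin.ext ((ha i hi).trans (hb' i hi).symm)
      · exact ih ht i hi
  intro i hi
  rw [map_mul, Equiv.Perm.mul_apply, map_inv, Equiv.Perm.inv_def, Equiv.symm_apply_eq]
  rcases List.mem_append.1 hi with hi | hi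
  · rw [h0 i hi, e1 i hi]
  · exact same h1 h2 i hi

end CfsgLib.PresCert
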