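import Cfsg.Prelude.Def_SporCoxeter
import Cfsg.Agent.Lib.PresCert.Table

/-!
# Coxeter-type presentations by numbered involutions

The generators get numbers; the relators become words in the numbers; a table of involutions
fixed by these words gives an action of the presented group.
-/

set_option autoImplicit false

namespace CfsgLib.PresCert

open Cfsg.Spor

/-- The data of a presentation on numbered generators. -/
structure CoxData where
  /-- The generators. -/
  Gen : Type
  [dec : DecidableEq Gen]
  /-- The number of generators. -/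
  ng : ℕ
  /-- A generator returned for numbers out of range. -/
  dflt : Gen
  /-- The generators in order. -/
  at' : List Gen
  /-- The number of a generator. -/
  ix : Gen → ℕ
  /-- The labelled graph. -/
  edges : List (Gen × ℕ × Gen)
  /-- The further relators. -/
  extra : List (FreeGroup Gen)

attribute [instance] CoxData.dec

variable (P : CoxData)

/-- The presented group. -/
abbrev CoxData.Grp : Type := CoxPresented P.Gen P.edges P.extra

/-- All generators are nodes, numbered in order. -/
structure CoxData.Ok : Prop where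
  at_ix : ∀ x, P.at'.getD (P.ix x) P.dflt = x
  ix_lt : ∀ x, P.ix x < P.ng
  ix_at : ∀ i, i < P.ng → P.ix (P.at'.getD i P.dflt) = i
  node : ∀ i, i < P.ng → P.at'.getD i P.dflt ∈ coxNodes P.edges

/-- The generators of the group by number. -/
def CoxData.gen (i : ℕ) : P.Grp := PresentedGroup.of (P.at'.getD i P.dflt)

/-- The relators as a list. -/
def CoxData.relList : List (FreeGroup P.Gen) :=
  (coxNodes P.edges).flatMap (fun x => (coxNodes P.edges).map fun y =>
    (FreeGroup.of x * FreeGroup.of y) ^ coxLabel P.edges x y) ++ P.extra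

/-- The relators as words. -/
def CoxData.rels : List (List ℕ) :=
  P.relList.map fun r => ((r.toWord.map fun p => P.ix p.1)).reverse

variable {P}

theorem CoxData.relList_mem {r : FreeGroup P.Gen} :
    r ∈ P.relList ↔ r ∈ coxRelators P.edges ∪ {r | r ∈ P.extra} := by
  simp only [CoxData.relList, List.mem_append, List.mem_flatMap, List.mem_map, coxRelators,
    Set.mem_union, Set.mem_ofPred_eq]
  constructor
  · rintro (⟨x, hx, y, hy, rfl⟩ | h)
    · exact Or.inl ⟨x, hx, y, hy, rfl⟩
    · exact Or.inr h
  · rintro (⟨x, hx, y, hy, rfl⟩ | h)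
    · exact Or.inl ⟨x, hx, y, hy, rfl⟩
    · exact Or.inr h

theorem CoxData.relList_one {r : FreeGroup P.Gen} (h : r ∈ P.relList) :
    PresentedGroup.mk (coxRelators P.edges ∪ {r | r ∈ P.extra}) r = 1 :=
  PresentedGroup.mk_eq_one_iff.2 (Subgroup.subset_normalClosure (CoxData.relList_mem.1 h))

theorem CoxData.cox_one {x y : P.Gen} (hx : x ∈ coxNodes P.edges) (hy : y ∈ coxNodes P.edges) :
    ((PresentedGroup.of x : P.Grp) * PresentedGroup.of y) ^ coxLabel P.edges x y = 1 := by
  have h := CoxData.relList_one (P := P)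
    (r := (FreeGroup.of x * FreeGroup.of y) ^ coxLabel P.edges x y) (by
      simp only [CoxData.relList, List.mem_append, List.mem_flatMap, List.mem_map]
      exact Or.inl ⟨x, hx, y, hy, rfl⟩)
  simpa [PresentedGroup.of] using h

variable (H : P.Ok)

include H

theorem CoxData.gen_ix (x : P.Gen) : P.gen (P.ix x) = PresentedGroup.of x := by
  rw [CoxData.gen, H.at_ix]

theorem CoxData.gen_sq {i : ℕ} (hi : i < P.ng) : P.gen i * P.gen i = 1 := by
  have h := CoxData.cox_one (H.node i hi) (H.node i hi)
  simpa [coxLabel, CoxData.gen] using h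

theorem CoxData.of_sq (x : P.Gen) :
    (PresentedGroup.of x : P.Grp) * PresentedGroup.of x = 1 := by
  rw [← CoxData.gen_ix H]
  exact CoxData.gen_sq H (H.ix_lt x)

theorem CoxData.mk_eq_act (L : List (P.Gen × Bool)) :
    PresentedGroup.mk (coxRelators P.edges ∪ {r | r ∈ P.extra}) (FreeGroup.mk L) =
      act P.gen (L.map fun p => P.ix p.1).reverse := by
  induction L with
  | nil =>
    rw [← FreeGroup.one_eq_mk, map_one]
    rfl
  | cons p L ih =>
    obtain ⟨x, b⟩ := p
    rw [show FreeGroup.mk ((x, b) :: L) = FreeGroup.mk [(x, b)] * FreeGroup.mk L from rfl, map_mul,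
      ih, List.map_cons, List.reverse_cons, act_append, act_cons, act_nil, one_mul,
      CoxData.gen_ix H]
    congr 1
    cases b
    · have e : FreeGroup.mk [(x, false)] = (FreeGroup.of x)⁻¹ := rfl
      rw [e, map_inv]
      exact inv_eq_of_mul_eq_one_right (CoxData.of_sq H x)
    · rfl

theorem CoxData.rels_act : ∀ w ∈ P.rels, act P.gen w = 1 := by
  intro w hw
  obtain ⟨r, hr, rfl⟩ := List.mem_map.1 hw
  rw [← CoxData.mk_eq_act H, FreeGroup.mk_toWord, CoxData.relList_one hr]

theorem CoxData.closure_gens : genGrp ((List.range P.ng).map fun g => [g]) P.gen = ⊤ := by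
  rw [eq_top_iff, ← PresentedGroup.closure_range_of, Subgroup.closure_le]
  rintro _ ⟨x, rfl⟩
  refine Subgroup.subset_closure ⟨[P.ix x], ?_, ?_⟩
  · exact List.mem_map.2 ⟨_, List.mem_range.2 (H.ix_lt x), rfl⟩
  · rw [act_cons, act_nil, one_mul, CoxData.gen_ix H]

/-- The image of a subgroup generated by single generators. -/
theorem CoxData.map_closure (S : List P.Gen) :
    (Subgroup.closure {r | r ∈ S.map FreeGroup.of}).map
        (PresentedGroup.mk (coxRelators P.edges ∪ {r | r ∈ P.extra})) =
      genGrp (S.map fun x => [P.ix x]) P.gen := by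
  rw [MonoidHom.map_closure, genGrp]
  congr 1
  ext m
  constructor
  · rintro ⟨r, hr, rfl⟩
    obtain ⟨x, hx, rfl⟩ := List.mem_map.1 hr
    exact ⟨_, List.mem_map.2 ⟨x, hx, rfl⟩,
      by rw [act_cons, act_nil, one_mul, CoxData.gen_ix H]; rfl⟩
  · rintro ⟨w, hw, rfl⟩
    obtain ⟨x, hx, rfl⟩ := List.mem_map.1 hw
    exact ⟨_, List.mem_map.2 ⟨x, hx, rfl⟩,
      by rw [act_cons, act_nil, one_mul, CoxData.gen_ix H]; rfl⟩

omit H

/-- Every relator is, up to reversal, among the listed words. -/
def CoxData.covered (P : CoxData) (D : List (List ℕ)) : Bool :=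
  P.rels.all fun w => w.all (fun g => Nat.blt g P.ng) && (D.contains w || D.contains w.reverse)

variable {T : Tab} (hT : T.Inv)

/-- The permutation of a generator. -/
def CoxData.genPerm (x : P.Gen) : Equiv.Perm (Fin T.n) := T.perm hT (P.ix x)

theorem CoxData.lift_eq_act (L : List (P.Gen × Bool)) :
    FreeGroup.lift (CoxData.genPerm hT) (FreeGroup.mk L) =
      act (T.perm hT) (L.map fun p => P.ix p.1).reverse := by
  induction L with
  | nil =>
    rw [← FreeGroup.one_eq_mk, map_one]
    rfl
  | cons p L ih =>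
    obtain ⟨x, b⟩ := p
    rw [show FreeGroup.mk ((x, b) :: L) = FreeGroup.mk [(x, b)] * FreeGroup.mk L from rfl, map_mul,
      ih, List.map_cons, List.reverse_cons, act_append, act_cons, act_nil, one_mul]
    congr 1
    cases b
    · have e : FreeGroup.mk [(x, false)] = (FreeGroup.of x)⁻¹ := rfl
      rw [e, map_inv, FreeGroup.lift_apply_of]
      exact inv_eq_of_mul_eq_one_right (T.perm_sq hT _)
    · exact FreeGroup.lift_apply_of

theorem CoxData.perm_rels (hng : T.ng = P.ng) {D : List (List ℕ)} (hD : P.covered D = true)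
    (hfix : ∀ w ∈ D, T.Fix w) : ∀ w ∈ P.rels, act (T.perm hT) w = 1 := by
  intro w hw
  simp only [CoxData.covered, List.all_eq_true, Bool.and_eq_true, Bool.or_eq_true, Nat.blt_eq,
    List.contains_iff_mem] at hD
  obtain ⟨hlt, hmem⟩ := hD w hw
  have R : Realised (T.perm hT) T (MonoidHom.id _) :=
    ⟨fun _ _ hg hi => (hT.spec hg hi).1, fun _ hg i => T.perm_apply hT hg i⟩
  have one : ∀ v : List ℕ, (∀ g ∈ v, g < P.ng) → v ∈ D → act (T.perm hT) v = 1 := by
    intro v hv hvm
    refine Equiv.ext fun i => Fin.ext ?_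
    have h1 := R.act_apply (w := v) (fun g hg => hng ▸ hv g hg) i
    rw [MonoidHom.id_apply] at h1
    rw [h1, (hfix v hvm).spec i.isLt]
    rfl
  rcases hmem with hm | hm
  · exact one w hlt hm
  · have h2 := one w.reverse (fun g hg => hlt g (List.mem_reverse.1 hg)) hm
    rw [act_reverse (ng := P.ng) (fun g _ => T.perm_sq hT g) hlt, inv_eq_one] at h2
    exact h2

/-- The action of the presented group on the points of a table. -/
def CoxData.toPerm (hrel : ∀ w ∈ P.rels, act (T.perm hT) w = 1) :
    P.Grp →* Equiv.Perm (Fin T.n) :=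
  PresentedGroup.toGroup (f := CoxData.genPerm hT) fun r hr => by
    rw [← FreeGroup.mk_toWord (x := r), CoxData.lift_eq_act hT]
    exact hrel _ (List.mem_map.2 ⟨r, CoxData.relList_mem.2 hr, rfl⟩)

theorem CoxData.realised_toPerm (H : P.Ok) (hng : T.ng = P.ng)
    (hrel : ∀ w ∈ P.rels, act (T.perm hT) w = 1) :
    Realised P.gen T (CoxData.toPerm hT hrel) := by
  refine ⟨fun _ _ hg hi => (hT.spec hg hi).1, fun g hg i => ?_⟩
  rw [CoxData.gen, CoxData.toPerm, PresentedGroup.toGroup.of, CoxData.genPerm,
    H.ix_at g (hng ▸ hg), T.perm_apply hT hg]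

end CfsgLib.PresCert
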