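import Cfsg.Agent.Lib.PresCert.Table

/-!
# Bounding a centraliser in a permutation table

The elements of a point stabiliser that commute with a given word are counted by a search along the
levels of a base: at each level the image of the base point has to respect the word on the points
already placed.
-/

set_option autoImplicit false

namespace CfsgLib.PresCert

variable (T : Tab)

/-- The image `y` of the base point `b` is compatible with the word, given the images `im` of the
earlier base points `bs`. -/
def centStep (zw : List ℕ) (bs im : List ℕ) (b y : ℕ) : Bool :=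
  (!(Nat.beq (T.walk b zw) b) || Nat.beq (T.walk y zw) y) &&
    (List.range bs.length).all fun j =>
      !(Nat.beq (T.walk b zw) (bs.getD j 0)) || Nat.beq (im.getD j 0) (T.walk y zw)

/-- The number of survivors of the search below a partial element `u`. -/
def centCount (zw : List ℕ) : List Level → List ℕ → List ℕ → List ℕ → ℕ
  | [], _, _, _ => 1
  | l :: ls, bs, im, u =>
    ((List.range l.pts.length).map fun k =>
      let y := T.walk (l.pts.getD k 0) u
      if centStep T zw bs im l.base y then
        centCount zw ls (bs ++ [l.base]) (im ++ [y]) (l.word (k + 1) k ++ u)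
      else 0).sum

variable {T}
variable {M : Type*} [Group M] [Finite M] {gen : ℕ → M} {φ : M →* Equiv.Perm (Fin T.n)}

/-- The elements below a partial element that give commuting products. -/
abbrev CentBelow (gen : ℕ → M) (φ : M →* Equiv.Perm (Fin T.n)) (zw bs u : List ℕ) : Type _ :=
  {h : M // h ∈ fixSub φ ([0] ++ bs) ∧
    act gen u * h * act gen zw = act gen zw * (act gen u * h)}

theorem walk_append (i : ℕ) (a b : List ℕ) : T.walk i (a ++ b) = T.walk (T.walk i a) b := by
  induction a generalizing i with
  | nil => rfl
  | cons g a ih => exact ih _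

/-- The search bounds the number of commuting elements. -/
theorem centCount_sound (R : Realised gen T φ) {zw : List ℕ} (hzw : ∀ g ∈ zw, g < T.ng) :
    ∀ (ls : List Level) (bs im u : List ℕ), levelsOk T ([0] ++ bs) ls = true →
      Nat.card (fixSub φ ([0] ++ bs)) ≤ (ls.map fun l => l.pts.length).prod →
      fixSub φ (([0] ++ bs) ++ ls.map Level.base) = ⊥ →
      (∀ g ∈ u, g < T.ng) → (∀ b ∈ bs, b < T.n) →
      (∀ j < bs.length, T.walk (bs.getD j 0) u = im.getD j 0) →
      im.length = bs.length →
      Nat.card (CentBelow gen φ zw bs u) ≤ centCount T zw ls bs im u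
  | [], bs, im, u, _, _, hbot, _, _, _, _ => by
    rw [centCount]
    rw [List.map_nil, List.append_nil] at hbot
    haveI : Subsingleton (CentBelow gen φ zw bs u) := ⟨fun a b => Subtype.ext (by
      have ha := hbot.le a.2.1
      have hb := hbot.le b.2.1
      exact (Subgroup.mem_bot.1 ha).trans (Subgroup.mem_bot.1 hb).symm)⟩
    exact Finite.card_le_one_iff_subsingleton.2 inferInstance
  | l :: ls, bs, im, u, hok, hle, hbot, hu, hbs, him, hlen => by
    classical
    have hok0 := hok
    simp only [levelsOk, Bool.and_eq_true] at hok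
    obtain ⟨hl, hrest⟩ := hok
    have hspec := level_spec R hl
    simp only [levelOk, Bool.and_eq_true, List.all_eq_true, Nat.blt_eq, decide_eq_true_eq] at hl
    obtain ⟨⟨⟨⟨⟨-, hhead⟩, -⟩, -⟩, hlt⟩, -⟩ := hl
    have hb : l.base < T.n := hlt _ (List.mem_of_mem_head? hhead)
    have hle' : Nat.card (fixSub φ (([0] ++ bs) ++ [l.base])) ≤
        (ls.map fun l => l.pts.length).prod :=
      (orbit_exact R hok0 hle 1 (Subgroup.one_mem _) l ls rfl ⟨l.base, hb⟩ rfl).2
    have hidx : ∀ h : CentBelow gen φ zw bs u, ∃ k : Fin l.pts.length,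
        (act gen (l.word (k.val + 1) k.val))⁻¹ * h.val ∈ fixSub φ ([0] ++ (bs ++ [l.base])) := by
      intro h
      obtain ⟨hmem, -⟩ := orbit_exact R hok0 hle h.val h.2.1 l ls rfl ⟨l.base, hb⟩ rfl
      obtain ⟨k, hk, e⟩ := List.getElem_of_mem hmem
      obtain ⟨w1, w2, w3⟩ := hspec k hk (k + 1) (Nat.lt_succ_self _)
      refine ⟨⟨k, hk⟩, fun i hi => ?_⟩
      rw [← List.append_assoc] at hi
      rcases List.mem_append.1 hi with hi | hi
      · exact Subgroup.mul_mem _ (Subgroup.inv_mem _ w2) h.2.1 i hi
      · have e' : i = ⟨l.base, hb⟩ := Fin.ext (List.mem_singleton.1 hi)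
        subst e'
        rw [map_mul, Equiv.Perm.mul_apply, map_inv, Equiv.Perm.inv_def, Equiv.symm_apply_eq]
        exact Fin.ext (by rw [R.act_apply w1, w3, List.getD_eq_getElem _ _ hk, e])
    choose kk hkk using hidx
    let S : Fin l.pts.length → Type _ := fun k =>
      CentBelow gen φ zw (bs ++ [l.base]) (l.word (k.val + 1) k.val ++ u)
    let f : CentBelow gen φ zw bs u → Σ k, S k := fun h =>
      ⟨kk h, ⟨(act gen (l.word ((kk h).val + 1) (kk h).val))⁻¹ * h.val, hkk h, by
        rw [act_append, mul_assoc (act gen u), mul_inv_cancel_left]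
        exact h.2.2⟩⟩
    have hf : Function.Injective f := fun a b e => by
      refine Subtype.ext ?_
      have e1 : kk a = kk b := congrArg Sigma.fst e
      have e2 := congrArg (fun p : Σ k, S k =>
        act gen (l.word (p.1.val + 1) p.1.val) * p.2.val) e
      simpa [f, e1] using e2
    refine le_trans (Nat.card_le_card_of_injective f hf) ?_
    rw [Nat.card_sigma]
    have hsum : ∀ F : ℕ → ℕ, ((List.range l.pts.length).map F).sum =
        ∑ k : Fin l.pts.length, F k.val := fun F => by
      rw [Fin.sum_univ_eq_sum_range F, Finset.sum_eq_multiset_sum]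
      rfl
    rw [centCount, hsum]
    refine Finset.sum_le_sum fun k _ => ?_
    obtain ⟨w1, w2, w3⟩ := hspec k.val k.isLt (k.val + 1) (Nat.lt_succ_self _)
    have hu' : ∀ g ∈ l.word (k.val + 1) k.val ++ u, g < T.ng := fun g hg => by
      rcases List.mem_append.1 hg with hg | hg
      exacts [w1 g hg, hu g hg]
    have hy : T.walk l.base (l.word (k.val + 1) k.val ++ u) = T.walk (l.pts.getD k.val 0) u := by
      rw [walk_append, w3]
    dsimp only
    split_ifs with hstep
    · refine centCount_sound R hzw ls (bs ++ [l.base]) _ _ ?_ ?_ ?_ hu' (fun b hb' => ?_) ?_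
        (by simp [hlen])
      · rwa [← List.append_assoc]
      · rwa [← List.append_assoc]
      · rw [List.map_cons] at hbot
        simpa using hbot
      · rcases List.mem_append.1 hb' with hb' | hb'
        exacts [hbs b hb', List.mem_singleton.1 hb' ▸ hb]
      · intro j hj
        rw [List.length_append, List.length_singleton] at hj
        rcases Nat.lt_or_ge j bs.length with hj' | hj'
        · rw [List.getD_append _ _ _ _ hj', List.getD_append _ _ _ _ (hlen ▸ hj'),
            walk_append, ← him j hj']
          congr 1
          have hjT : bs.getD j 0 ∈ [0] ++ bs := by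
            rw [List.getD_eq_getElem _ _ hj']
            exact List.mem_append_right _ (List.getElem_mem hj')
          have hjn : bs.getD j 0 < T.n := by
            rw [List.getD_eq_getElem _ _ hj']; exact hbs _ (List.getElem_mem hj')
          rw [← R.act_apply w1 ⟨_, hjn⟩, w2 ⟨_, hjn⟩ hjT]
        · obtain rfl : j = bs.length := by omega
          rw [List.getD_append_right _ _ _ _ le_rfl, List.getD_append_right _ _ _ _ (le_of_eq hlen),
            Nat.sub_self, hlen, Nat.sub_self]
          simpa using hy
    · refine le_of_eq (Nat.card_eq_zero.2 (Or.inl ⟨fun h => hstep ?_⟩))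
      set g := act gen (l.word (k.val + 1) k.val ++ u) * h.val with hg
      have hfixg : ∀ i : Fin T.n, i.val ∈ [0] ++ (bs ++ [l.base]) →
          ((φ g i : Fin T.n) : ℕ) = T.walk i.val (l.word (k.val + 1) k.val ++ u) := fun i hi => by
        rw [hg, map_mul, Equiv.Perm.mul_apply, h.2.1 i hi, R.act_apply hu']
      have hcom : ∀ i : Fin T.n, ((φ g (φ (act gen zw) i) : Fin T.n) : ℕ) =
          T.walk (φ g i).val zw := fun i => by
        rw [← Equiv.Perm.mul_apply, ← map_mul, h.2.2, map_mul, Equiv.Perm.mul_apply,
          R.act_apply hzw]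
      have hgb : ((φ g ⟨l.base, hb⟩ : Fin T.n) : ℕ) = T.walk (l.pts.getD k.val 0) u := by
        rw [hfixg ⟨l.base, hb⟩ (by simp), hy]
      have hzb : ((φ (act gen zw) ⟨l.base, hb⟩ : Fin T.n) : ℕ) = T.walk l.base zw :=
        R.act_apply hzw _
      simp only [centStep, Bool.and_eq_true, Bool.or_eq_true, Bool.not_eq_true', List.all_eq_true,
        List.mem_range, Nat.beq_eq]
      refine ⟨?_, fun j hj => ?_⟩
      · by_cases hzfix : T.walk l.base zw = l.base
        · right
          have e := hcom ⟨l.base, hb⟩
          rw [show φ (act gen zw) ⟨l.base, hb⟩ = ⟨l.base, hb⟩ from Fin.ext (hzb.trans hzfix),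
            hgb] at e
          exact e.symm
        · left
          exact Bool.eq_false_iff.2 fun e => hzfix (Nat.eq_of_beq_eq_true e)
      · by_cases hzj : T.walk l.base zw = bs.getD j 0
        · right
          have e := hcom ⟨l.base, hb⟩
          rw [hgb, hfixg _ (by
            rw [hzb, hzj, List.getD_eq_getElem _ _ hj]
            simp [List.getElem_mem hj]), hzb, hzj, walk_append] at e
          rw [← e, ← him j hj]
          congr 1
          have hjT : bs.getD j 0 ∈ [0] ++ bs := by
            rw [List.getD_eq_getElem _ _ hj]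
            exact List.mem_append_right _ (List.getElem_mem hj)
          have hjn : bs.getD j 0 < T.n := hzj ▸ hzb ▸ Fin.isLt _
          rw [← R.act_apply w1 ⟨_, hjn⟩, w2 ⟨_, hjn⟩ hjT]
        · left
          exact Bool.eq_false_iff.2 fun e => hzj (Nat.eq_of_beq_eq_true e)

/-- A centraliser is at most the fixed points of the element times the result of the search. -/
theorem centralizer_le (R : Realised gen T φ) {zw : List ℕ} (hzw : ∀ g ∈ zw, g < T.ng)
    (h0 : 0 < T.n) {ls : List Level} (hok : levelsOk T [0] ls = true)
    (hle : Nat.card (fixSub φ [0]) ≤ (ls.map fun l => l.pts.length).prod)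
    (hz0 : T.walk 0 zw = 0) :
    Nat.card (Subgroup.centralizer ({act gen zw} : Set M)) ≤
      ((List.range T.n).filter fun i => Nat.beq (T.walk i zw) i).length *
        centCount T zw ls [] [] [] := by
  classical
  set C := Subgroup.centralizer ({act gen zw} : Set M) with hC
  letI : MulAction C (Fin T.n) := MulAction.compHom _ (φ.comp C.subtype)
  set z0 : Fin T.n := ⟨0, h0⟩ with hz0'
  have h2 := Nat.card_congr (MulAction.orbitProdStabilizerEquivGroup C z0)
  rw [Nat.card_prod] at h2
  rw [← h2]
  refine Nat.mul_le_mul ?_ (le_trans ?_ (centCount_sound R hzw ls [] [] [] (by simpa using hok)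
    (by simpa using hle) (by simpa using (base_tight R hok hle).2) (by simp) (by simp) (by simp) rfl))
  · have hsub : ∀ x ∈ MulAction.orbit C z0, T.walk x.val zw = x.val := by
      rintro _ ⟨g, rfl⟩
      show T.walk (φ g.val z0).val zw = (φ g.val z0).val
      rw [← R.act_apply hzw, ← Equiv.Perm.mul_apply, ← map_mul,
        ← Subgroup.mem_centralizer_singleton_iff.1 g.2, map_mul, Equiv.Perm.mul_apply]
      congr 2
      exact Fin.ext ((R.act_apply hzw z0).trans hz0)
    rw [Nat.card_coe_set_eq, ← List.toFinset_card_of_nodup (List.nodup_range.filter _),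
      ← Set.ncard_coe_finset]
    refine Set.ncard_le_ncard_of_injOn (fun x : Fin T.n => x.val) (fun x hx => ?_)
      (fun a _ b _ e => Fin.ext e) (Finset.finite_toSet _)
    simp [Nat.beq_eq, hsub x hx, x.isLt]
  · refine Nat.card_le_card_of_injective
      (fun g => (⟨g.val.val, fun i hi => ?_, ?_⟩ : CentBelow gen φ zw [] []))
      fun a b e => Subtype.ext (Subtype.ext (by simpa using congrArg (fun q => q.val) e))
    · have hi' : i = z0 := Fin.ext (by simpa using hi)
      subst hi'
      exact g.2
    · rw [act_nil, one_mul]
      exact Subgroup.mem_centralizer_singleton_iff.1 g.val.2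

end CfsgLib.PresCert
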