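import Cfsg.Agent.Lib.PresCert.Bound

/-!
# Certificates for generators given with their inverses

The same certificates as for involutions, except that the mirror rule uses a numbering of the
inverses.
-/

set_option autoImplicit false

namespace CfsgLib.PresCert.Paired

variable (D : Data) (iv : ℕ → ℕ)

/-- The rule `mirror` for paired letters. -/
def mirrorOk (cur x g y : ℕ) : Bool :=
  Nat.blt g D.ng && Nat.blt (iv g) D.ng && endsAt D cur (step D cur (iv g) fuel y) x

/-- The check of a slot. -/
def slotOk (x g : ℕ) : Bool :=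
  let c := cell D x g
  let cur := rkOf D c
  let y := valOf D c
  let r := ruleOf D c
  Nat.beq (cur + 1) D.rm || Nat.beq r 0 && ruleDef D x g y ||
    Nat.beq (r % 5) 1 && mirrorOk D iv cur x g y ||
    Nat.beq (r % 5) 2 && ruleWord D cur x g y (r / 5) ||
    Nat.beq (r % 5) 3 && ruleCopy D cur x g y (r / 5) ||
    Nat.beq (r % 5) 4 && ruleMerge D cur x g y (r / 5)

/-- The checks at the nodes of a block of 1000. -/
def block (b : ℕ) : Bool :=
  (List.range 1000).all fun j =>
    let x := 1000 * b + j
    !(Nat.blt x D.N) || (List.range (D.ng + 1)).all fun g => slotOk D iv x g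

/-- A certificate: the shape and the slots. -/
structure Valid : Prop where
  shape : shapeOk D = true
  slots : ∀ b, 1000 * b < D.N → block D iv b = true

variable {M X : Type*} [Group M] [MulAction M X] (gen : ℕ → M) (x₀ : X)

/-- The hypotheses: paired inverses, and the words fix what they should fix. -/
structure PairHyp : Prop where
  inv : ∀ g, g < D.ng → gen g * gen (iv g) = 1
  rel : ∀ r, r < D.nrel → ∀ x : X,
    act gen ((wordAt D r).1 ++ (if (wordAt D r).2.1 < D.ng then [(wordAt D r).2.1] else []) ++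
      (wordAt D r).2.2) • x = x
  sub : ∀ r, D.nrel ≤ r →
    act gen ((wordAt D r).1 ++ (if (wordAt D r).2.1 < D.ng then [(wordAt D r).2.1] else []) ++
      (wordAt D r).2.2) • x₀ = x₀

variable {D iv gen x₀}

/-- A checked slot is true if the slots of smaller rank are. -/
theorem slotOk_sound (H : PairHyp D iv gen x₀) (hw : wordsOk D = true) (hng : 0 < D.ng) {x g : ℕ}
    (hg : g ≤ D.ng) (h : slotOk D iv x g = true) (hne : rkOf D (cell D x g) + 1 ≠ D.rm)
    (hb : Below D gen x₀ (rkOf D (cell D x g))) : Claim D gen x₀ x g := by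
  simp only [slotOk, Bool.or_eq_true, Bool.and_eq_true, Nat.beq_eq] at h
  set c := cell D x g with hc
  set cur := rkOf D c with hcur
  set y := valOf D c with hy
  show (g < D.ng → gen g • phi D gen x₀ x = phi D gen x₀ y) ∧
    (g = D.ng → phi D gen x₀ x = phi D gen x₀ y)
  rcases h with ((((h | ⟨-, h⟩) | ⟨-, h⟩) | ⟨-, h⟩) | ⟨-, h⟩) | ⟨-, h⟩
  · exact absurd h hne
  · simp only [ruleDef, Bool.and_eq_true, Nat.blt_eq, Nat.beq_eq] at h
    obtain ⟨⟨⟨h0, h1⟩, h2⟩, h3⟩ := h
    refine ⟨fun _ => ?_, fun e => absurd e (by omega)⟩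
    have e1 : parOf D y / D.ng = x := by
      rw [h3, Nat.add_comm, Nat.add_mul_div_right _ _ hng, Nat.div_eq_of_lt h2, Nat.zero_add]
    have e2 : parOf D y % D.ng = g := by
      rw [h3, Nat.add_comm, Nat.add_mul_mod_self_right, Nat.mod_eq_of_lt h2]
    rw [phi_par D gen x₀ h0 (by omega), e1, e2]
  · simp only [mirrorOk, Bool.and_eq_true, Nat.blt_eq] at h
    obtain ⟨⟨h1, hi⟩, h2⟩ := h
    obtain ⟨f, hf, e⟩ := endsAt_sound hb h2
    refine ⟨fun _ => ?_, fun e => absurd e (by omega)⟩
    rw [← e, ← step_sound hb hi hf, ← mul_smul, H.inv g h1, one_smul]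
  · simp only [ruleWord, Bool.and_eq_true, Nat.beq_eq, Nat.blt_eq] at h
    generalize hr : ruleOf D c / 5 = r at h
    obtain ⟨⟨h1, h2⟩, h3⟩ := h
    obtain ⟨w1, w2, -⟩ := wordsOk_spec hw hng r
    obtain ⟨f1, hf1, e1⟩ := endsAt_sound hb h2
    obtain ⟨f2, hf2, e2⟩ := endsAt_sound hb h3
    have a1 := walk_sound hb w1 hf1
    have a2 := walk_sound hb w2 hf2
    rw [e1] at a1
    rw [e2] at a2
    have hfix : act gen ((wordAt D r).1 ++ (if (wordAt D r).2.1 < D.ng then [(wordAt D r).2.1]
        else []) ++ (wordAt D r).2.2) • phi D gen x₀ (if r < D.nrel then x else 0) =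
          phi D gen x₀ (if r < D.nrel then x else 0) := by
      by_cases hrel : r < D.nrel
      · exact H.rel r hrel _
      · rw [if_neg hrel, phi_zero]
        exact H.sub r (by omega)
    generalize phi D gen x₀ (if r < D.nrel then x else 0) = p at a1 a2 hfix
    rw [act_append, act_append, mul_smul, mul_smul, a1, h1] at hfix
    constructor
    · intro hgn
      rw [if_pos hgn, act_cons, act_nil, one_mul] at hfix
      exact smul_left_cancel _ (hfix.trans a2.symm)
    · intro hgn
      rw [if_neg (by omega), act_nil, one_smul] at hfix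
      exact smul_left_cancel _ (hfix.trans a2.symm)
  · simp only [ruleCopy, Bool.and_eq_true, Nat.blt_eq, Nat.beq_eq] at h
    obtain ⟨⟨h1, h2⟩, h3⟩ := h
    obtain ⟨f, hf, e⟩ := endsAt_sound hb h3
    refine ⟨fun _ => ?_, fun e => absurd e (by omega)⟩
    rw [← root_sound hb fuel x, ← h2, root_sound hb, ← e]
    exact step_sound hb h1 hf
  · simp only [ruleMerge, Bool.and_eq_true, Bool.or_eq_true, Nat.blt_eq, Nat.beq_eq] at h
    obtain ⟨⟨h1, h2⟩, h3⟩ := h
    have hh : ruleOf D c / 5 % D.ng < D.ng := Nat.mod_lt _ hng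
    generalize ruleOf D c / 5 / D.ng = e at h2 h3
    generalize ruleOf D c / 5 % D.ng = k at h2 h3 hh
    refine ⟨fun e' => absurd e' (by omega), fun _ => ?_⟩
    have he := (hb e k hh.le h2).1 hh
    rcases h3 with ⟨ha, hb'⟩ | ⟨ha, hb'⟩ <;>
    · obtain ⟨f1, hf1, e1⟩ := endsAt_sound hb ha
      obtain ⟨f2, hf2, e2⟩ := endsAt_sound hb hb'
      obtain rfl := Option.some.inj hf1
      have hs := step_sound hb hh hf2
      rw [root_sound hb, he, e1, e2] at hs
      first | exact hs | exact hs.symm

theorem all_claims (H : PairHyp D iv gen x₀) (hw : wordsOk D = true) (hng : 0 < D.ng)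
    (hslots : ∀ x g, g ≤ D.ng → rkOf D (cell D x g) + 1 ≠ D.rm → slotOk D iv x g = true) :
    ∀ cur, cur < D.rm → Below D gen x₀ cur := by
  intro cur
  induction cur with
  | zero => intro _ x g _ h; omega
  | succ c ih =>
    intro hc x g hg h
    by_cases h' : rkOf D (cell D x g) < c
    · exact ih (by omega) x g hg h'
    · have e : rkOf D (cell D x g) = c := by omega
      exact slotOk_sound H hw hng hg (hslots x g hg (by omega)) (by omega) (e ▸ ih (by omega))

theorem below_top (V : Valid D iv) (H : PairHyp D iv gen x₀) : Below D gen x₀ (D.rm - 1) := by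
  obtain ⟨hng, hrm, -, -, -, -, hw⟩ := shape_spec V.shape
  refine all_claims H hw hng (fun x g hg hne => ?_) _ (by omega)
  by_cases hx : x < D.N
  · have hb := V.slots (x / 1000) (by omega)
    simp only [block, List.all_eq_true, List.mem_range, Bool.or_eq_true, Bool.not_eq_true'] at hb
    have h' := hb (x % 1000) (Nat.mod_lt _ (by norm_num))
    rw [Nat.div_add_mod] at h'
    refine (h'.resolve_left fun e => ?_) g (by omega)
    have : Nat.blt x D.N = true := by rw [Nat.blt_eq]; exact hx
    rw [this] at e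
    exact Bool.noConfusion e
  · exfalso
    refine hne ?_
    rw [cell_eq_zero V.shape (by omega), rkOf, Nat.zero_div, Nat.zero_mod]
    omega

/-- A word fixes the first point if its walk closes. -/
theorem word_fix (V : Valid D iv) (H : PairHyp D iv gen x₀) {w : List ℕ}
    (hw : ∀ g ∈ w, g < D.ng)
    (h : endsAt D (D.rm - 1) (walk D (D.rm - 1) 0 w) 0 = true) : act gen w • x₀ = x₀ := by
  obtain ⟨f, hf, e⟩ := endsAt_sound (below_top V H) h
  have := walk_sound (below_top V H) hw hf
  rwa [e, phi_zero] at this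

end CfsgLib.PresCert.Paired
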