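import Cfsg.Agent.Lib.PresCert.Paired
import Cfsg.Agent.Lib.Y555.Tables

/-!
# The order bound of a certificate with paired inverse letters
-/

set_option autoImplicit false

namespace CfsgLib.PresCert.Paired

variable (D : Data) (iv : ℕ → ℕ)

/-- The inverse of a word. -/
def invW (w : List ℕ) : List ℕ := (w.map iv).reverse

/-- The words are rotations of relators or of their inverses, as hinted. -/
def hintsOk (rels : List (List ℕ)) (hints : List (ℕ × ℕ × Bool)) : Bool :=
  Nat.ble D.nrel hints.length && rels.all (fun w => w.all fun g => Nat.blt g D.ng) &&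
    (List.range D.nrel).all fun r =>
      let h := hints.getD r (0, 0, false)
      let v := rels.getD h.1 []
      decide (Y555.fullWord D r = []) ||
        decide (Y555.fullWord D r = (if h.2.2 then invW iv v else v).rotate h.2.1)

/-- The live nodes are closed under the given words. -/
structure Closed (S : List (List ℕ)) : Prop extends Valid D iv where
  words : S.all (fun w => w.all fun g => Nat.blt g D.ng) = true
  closed : ∀ b, 1000 * b < D.n → closedBlock D S b = true

variable {D iv} {M X : Type*} [Group M] [MulAction M X] {gen : ℕ → M} {x₀ : X}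

theorem act_invW (hinv : ∀ g, g < D.ng → gen g * gen (iv g) = 1) :
    ∀ {w : List ℕ}, (∀ g ∈ w, g < D.ng) → act gen (invW iv w) = (act gen w)⁻¹
  | [], _ => by simp [invW, act_nil]
  | g :: w, hw => by
    have h : invW iv (g :: w) = invW iv w ++ [iv g] := by simp [invW]
    rw [h, act_append, act_cons, act_cons, act_nil, one_mul,
      act_invW hinv (fun a ha => hw a (by simp [ha])), mul_inv_rev,
      inv_eq_of_mul_eq_one_right (hinv g (hw g (by simp)))]

theorem pairHyp_of_hints {rels subs : List (List ℕ)} {hints : List (ℕ × ℕ × Bool)}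
    (hinv : ∀ g, g < D.ng → gen g * gen (iv g) = 1)
    (hrels : ∀ w ∈ rels, act gen w = 1) (hsubs : ∀ w ∈ subs, act gen w • x₀ = x₀)
    (h1 : hintsOk D iv rels hints = true) (h2 : Y555.marksOk D subs = true) :
    PairHyp D iv gen x₀ := by
  simp only [hintsOk, Bool.and_eq_true, List.all_eq_true, Nat.blt_eq, Nat.ble_eq, List.mem_range,
    Bool.or_eq_true, decide_eq_true_eq] at h1
  obtain ⟨⟨-, hl⟩, h1⟩ := h1
  refine ⟨hinv, fun r hr x => ?_, fun r hr => ?_⟩
  · have hv : act gen (rels.getD (hints.getD r (0, 0, false)).1 []) = 1 ∧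
        ∀ g ∈ rels.getD (hints.getD r (0, 0, false)).1 [], g < D.ng := by
      by_cases hlt : (hints.getD r (0, 0, false)).1 < rels.length
      · rw [List.getD_eq_getElem _ _ hlt]
        exact ⟨hrels _ (List.getElem_mem hlt), hl _ (List.getElem_mem hlt)⟩
      · rw [List.getD_eq_default _ _ (Nat.le_of_not_lt hlt)]
        exact ⟨act_nil gen, fun g hg => absurd hg List.not_mem_nil⟩
    have key : act gen (Y555.fullWord D r) = 1 := by
      rcases h1 r hr with e | e
      · rw [e, act_nil]
      · rw [e]
        refine act_rotate ?_ _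
        split_ifs
        · rw [act_invW hinv hv.2, hv.1, inv_one]
        · exact hv.1
    rw [Y555.fullWord] at key
    rw [key, one_smul]
  · simp only [Y555.marksOk, List.all_eq_true, List.mem_range, Bool.or_eq_true, Nat.blt_eq,
      decide_eq_true_eq, List.any_eq_true] at h2
    show act gen (Y555.fullWord D r) • x₀ = x₀
    by_cases ht : r < 16 * D.words.length
    · rcases h2 r ht with (e | e) | ⟨v, hv, e⟩
      · omega
      · rw [e, act_nil, one_smul]
      · rw [e]; exact hsubs v hv
    · have e : wordAt D r = ([], D.ng, []) := by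
        rw [wordAt, List.getD_eq_default _ _ (show D.words.length ≤ r / 16 by omega)]
        rfl
      simp [Y555.fullWord, e, act_nil]

theorem word_closed {S : List (List ℕ)} (V : Closed D iv S) (H : PairHyp D iv gen x₀) {i : ℕ}
    (hi : i < D.n) {w : List ℕ} (hw : w ∈ S) :
    ∃ j < D.n, act gen w • phi D gen x₀ (liveAt D i) = phi D gen x₀ (liveAt D j) := by
  have hb := V.closed (i / 1000) (by omega)
  simp only [closedBlock, List.all_eq_true, List.mem_range, Bool.or_eq_true,
    Bool.not_eq_true'] at hb
  have h' := hb (i % 1000) (Nat.mod_lt _ (by norm_num))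
  rw [Nat.div_add_mod] at h'
  have h2 := (h'.resolve_left fun e => by
    have : Nat.blt i D.n = true := by rw [Nat.blt_eq]; exact hi
    rw [this] at e
    exact Bool.noConfusion e) w hw
  have hlt := V.words
  simp only [List.all_eq_true, Nat.blt_eq] at hlt
  simp only [closedAt] at h2
  have hB := below_top V.toValid H
  cases hs : walk D (D.rm - 1) (liveAt D i) w with
  | none => rw [hs] at h2; simp at h2
  | some f =>
    rw [hs] at h2
    simp only [Bool.and_eq_true, Nat.blt_eq, Nat.beq_eq] at h2
    refine ⟨_, h2.1, ?_⟩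
    rw [walk_sound hB (hlt w hw) hs, h2.2, root_sound hB]

theorem orbit_mem {S : List (List ℕ)} (V : Closed D iv S) (H : PairHyp D iv gen x₀) {m : M}
    (hm : m ∈ genGrp S gen) : ∃ j < D.n, m • x₀ = phi D gen x₀ (liveAt D j) := by
  obtain ⟨-, -, -, -, h0, hn, -⟩ := shape_spec V.shape
  classical
  let P := (Finset.range D.n).image fun i => phi D gen x₀ (liveAt D i)
  have hP : ∀ w ∈ S, P.image (act gen w • ·) = P := by
    intro w hw
    refine Finset.eq_of_subset_of_card_le (fun q hq => ?_)
      (Finset.card_image_of_injective _ (MulAction.injective _)).ge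
    obtain ⟨p, hp, rfl⟩ := Finset.mem_image.1 hq
    obtain ⟨a, ha, rfl⟩ := Finset.mem_image.1 hp
    obtain ⟨j, hj, e⟩ := word_closed V H (Finset.mem_range.1 ha) hw
    exact Finset.mem_image.2 ⟨j, Finset.mem_range.2 hj, e.symm⟩
  suffices h : ∀ p ∈ P, m • p ∈ P by
    have hx : x₀ ∈ P := Finset.mem_image.2 ⟨0, Finset.mem_range.2 hn, by rw [h0, phi_zero]⟩
    obtain ⟨j, hj, e⟩ := Finset.mem_image.1 (h x₀ hx)
    exact ⟨j, Finset.mem_range.1 hj, e.symm⟩
  induction hm using Subgroup.closure_induction_left with
  | one => exact fun p hp => by rwa [one_smul]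
  | mul_left s hs m' _ ih =>
    obtain ⟨w, hw, rfl⟩ := hs
    intro p hp
    rw [← hP w hw, mul_smul]
    exact Finset.mem_image_of_mem _ (ih p hp)
  | inv_mul_cancel s hs m' _ ih =>
    obtain ⟨w, hw, rfl⟩ := hs
    intro p hp
    have h := ih p hp
    rw [← hP w hw] at h
    obtain ⟨q, hq, e⟩ := Finset.mem_image.1 h
    rwa [mul_smul, ← e, inv_smul_smul]

/-- A subgroup given by words is covered by `n` cosets of the stabiliser subgroup. -/
theorem card_le {K : Subgroup M} [Finite K] {W : List (List ℕ)} {a : ℕ} (ha : Nat.card K ≤ a)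
    (V : Closed D iv W) (H : PairHyp D iv gen ((1 : M) : M ⧸ K)) :
    Finite (genGrp W gen) ∧ Nat.card (genGrp W gen) ≤ D.n * a := by
  let F : Fin D.n × K → M := fun p =>
    (phi D gen ((1 : M) : M ⧸ K) (liveAt D p.1)).out * (p.2 : M)
  have hcov : ∀ m ∈ genGrp W gen, m ∈ Set.range F := by
    intro m hm
    obtain ⟨j, hj, e⟩ := orbit_mem V H hm
    rw [MulAction.Quotient.smul_coe, smul_eq_mul, mul_one] at e
    set q := phi D gen ((1 : M) : M ⧸ K) (liveAt D j) with hq
    have : q.out⁻¹ * m ∈ K := by
      rw [← QuotientGroup.eq, QuotientGroup.out_eq', e]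
    exact ⟨(⟨j, hj⟩, ⟨_, this⟩), by simp [F, ← hq]⟩
  let f : genGrp W gen → Fin D.n × K := fun m => (hcov m m.2).choose
  have hf : Function.Injective f := by
    intro x y h
    have hx := (hcov x x.2).choose_spec
    have hy := (hcov y y.2).choose_spec
    exact Subtype.ext (hx.symm.trans ((congrArg F h).trans hy))
  refine ⟨Finite.of_injective f hf, (Nat.card_le_card_of_injective f hf).trans ?_⟩
  rw [Nat.card_prod, Nat.card_fin]
  exact Nat.mul_le_mul_left _ ha

end CfsgLib.PresCert.Paired
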