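import Mathlib

/-!
# Certificates for coset enumerations with coincidences

The nodes of an enumeration are defined by a tree. A slot `(x, g)` holds a node `y` with the claim
`gen g • φ x = φ y`, and the slot `(x, ng)` holds a node with the claim `φ x = φ y`. Every slot
carries a rank and the rule by which it follows from slots of smaller rank, so that all slots can
be checked separately.
-/

set_option autoImplicit false

namespace CfsgLib.PresCert

/-- Certificate data. -/
structure Data where
  /-- The number of generators, all involutions. -/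
  ng : ℕ
  /-- The number of live nodes. -/
  n : ℕ
  /-- The number of nodes. -/
  N : ℕ
  /-- The modulus of the node field. -/
  vm : ℕ
  /-- The modulus of the rank field, one more than the rank of an empty slot. -/
  rm : ℕ
  /-- The width of a slot. -/
  cw : ℕ
  /-- The number of slots in a leaf. -/
  R : ℕ
  /-- The packed slots. -/
  cells : List (List ℕ)
  /-- The width of a parent. -/
  pw : ℕ
  /-- The packed parents. -/
  pars : List (List ℕ)
  /-- The width of an index. -/
  iw : ℕ
  /-- The packed live nodes. -/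
  live : List (List ℕ)
  /-- The packed indices of the nodes. -/
  idx : List (List ℕ)
  /-- The number of words that fix every point. -/
  nrel : ℕ
  /-- The words: a prefix, the letter or `ng`, a suffix. -/
  words : List (List (List ℕ × ℕ × List ℕ))

/-- Lookup in a packed two-level list. -/
def look (L : List (List ℕ)) (R w k : ℕ) : ℕ :=
  (((L.getD (k / R / 16) []).getD (k / R % 16) 0) >>> (w * (k % R))) % 2 ^ w

variable (D : Data)

/-- The content of a slot. -/
def cell (x g : ℕ) : ℕ := look D.cells D.R D.cw ((D.ng + 1) * x + g)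

/-- The node of a slot. -/
def valOf (c : ℕ) : ℕ := c % D.vm

/-- The rank of a slot; the empty slot has the largest one. -/
def rkOf (c : ℕ) : ℕ := D.rm - 1 - c / D.vm % D.rm

/-- The rule of a slot. -/
def ruleOf (c : ℕ) : ℕ := c / D.vm / D.rm

/-- One step by known slots. -/
def step (cur g : ℕ) : ℕ → ℕ → Option ℕ
  | 0, _ => none
  | fuel + 1, f =>
    if Nat.blt (rkOf D (cell D f g)) cur then some (valOf D (cell D f g))
    else if Nat.blt (rkOf D (cell D f D.ng)) cur then step cur g fuel (valOf D (cell D f D.ng))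
    else none

/-- Following the known identifications. -/
def root (cur : ℕ) : ℕ → ℕ → ℕ
  | 0, f => f
  | fuel + 1, f =>
    if Nat.blt (rkOf D (cell D f D.ng)) cur then root cur fuel (valOf D (cell D f D.ng)) else f

/-- The fuel. -/
def fuel : ℕ := 64

/-- A walk along known slots. -/
def walk (cur : ℕ) : ℕ → List ℕ → Option ℕ
  | f, [] => some f
  | f, g :: w =>
    match step D cur g fuel f with
    | some f' => walk cur f' w
    | none => none

/-- The comparison of a walk with a node. -/
def endsAt (cur : ℕ) (o : Option ℕ) (y : ℕ) : Bool :=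
  match o with
  | some f => Nat.beq (root D cur fuel f) (root D cur fuel y)
  | none => false

/-- The parent code of a node. -/
def parOf (k : ℕ) : ℕ := look D.pars 256 D.pw k

/-- A word of the certificate. -/
def wordAt (r : ℕ) : List ℕ × ℕ × List ℕ := (D.words.getD (r / 16) []).getD (r % 16) ([], D.ng, [])

/-- The rule `def`: the slot is a tree edge. -/
def ruleDef (x g y : ℕ) : Bool :=
  Nat.blt 0 y && Nat.blt x y && Nat.blt g D.ng && Nat.beq (parOf D y) (x * D.ng + g)

/-- The rule `mirror`. -/
def ruleMirror (cur x g y : ℕ) : Bool :=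
  Nat.blt g D.ng && endsAt D cur (step D cur g fuel y) x

/-- The rule `word`. -/
def ruleWord (cur x g y r : ℕ) : Bool :=
  let w := wordAt D r
  let s := if Nat.blt r D.nrel then x else 0
  Nat.beq w.2.1 g && endsAt D cur (walk D cur s w.1) x && endsAt D cur (walk D cur y w.2.2) s

/-- The rule `copy`: an identified node has the slot. -/
def ruleCopy (cur x g y e : ℕ) : Bool :=
  Nat.blt g D.ng && Nat.beq (root D cur fuel e) (root D cur fuel x) &&
    endsAt D cur (step D cur g fuel e) y

/-- The rule `merge`: two identified nodes have slots with different nodes. -/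
def ruleMerge (cur x g y p : ℕ) : Bool :=
  let e := p / D.ng
  let h := p % D.ng
  let u := root D cur fuel e
  Nat.beq g D.ng && Nat.blt (rkOf D (cell D e h)) cur &&
    ((endsAt D cur (some (valOf D (cell D e h))) x && endsAt D cur (step D cur h fuel u) y) ||
      (endsAt D cur (some (valOf D (cell D e h))) y && endsAt D cur (step D cur h fuel u) x))

/-- The check of a slot. -/
def slotOk (x g : ℕ) : Bool :=
  let c := cell D x g
  let cur := rkOf D c
  let y := valOf D c
  let r := ruleOf D c
  Nat.beq (cur + 1) D.rm || Nat.beq r 0 && ruleDef D x g y ||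
    Nat.beq (r % 5) 1 && ruleMirror D cur x g y ||
    Nat.beq (r % 5) 2 && ruleWord D cur x g y (r / 5) ||
    Nat.beq (r % 5) 3 && ruleCopy D cur x g y (r / 5) ||
    Nat.beq (r % 5) 4 && ruleMerge D cur x g y (r / 5)

/-- The live node of an index. -/
def liveAt (i : ℕ) : ℕ := look D.live 256 D.iw i

/-- The index of a node. -/
def idxAt (k : ℕ) : ℕ := look D.idx 256 D.iw k

/-- The closure check at a live node for a word. -/
def closedAt (i : ℕ) (w : List ℕ) : Bool :=
  match walk D (D.rm - 1) (liveAt D i) w with
  | some f =>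
    let f' := root D (D.rm - 1) fuel f
    Nat.blt (idxAt D f') D.n && Nat.beq (liveAt D (idxAt D f')) f'
  | none => false

/-- The checks at the nodes of a block of 1000. -/
def block (b : ℕ) : Bool :=
  (List.range 1000).all fun j =>
    let x := 1000 * b + j
    !(Nat.blt x D.N) || (List.range (D.ng + 1)).all fun g => slotOk D x g

/-- The closure checks for the given words at a block of 1000 live nodes. -/
def closedBlock (S : List (List ℕ)) (b : ℕ) : Bool :=
  (List.range 1000).all fun j =>
    let i := 1000 * b + j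
    !(Nat.blt i D.n) || S.all fun w => closedAt D i w

section Sound

variable {M X : Type*} [Group M] [MulAction M X] (gen : ℕ → M) (x₀ : X)

/-- The element of a word; the head acts first. -/
def act : List ℕ → M
  | [] => 1
  | g :: w => act w * gen g

theorem act_nil : act gen [] = 1 := rfl

theorem act_cons (g : ℕ) (w : List ℕ) : act gen (g :: w) = act gen w * gen g := rfl

theorem act_append (u w : List ℕ) : act gen (u ++ w) = act gen w * act gen u := by
  induction u with
  | nil => simp [act_nil]
  | cons g u ih => rw [List.cons_append, act_cons, act_cons, ih, mul_assoc]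

/-- The point of a node, with fuel. -/
def ptF : ℕ → ℕ → X
  | 0, _ => x₀
  | fu + 1, k =>
    if k = 0 then x₀
    else if parOf D k / D.ng < k then gen (parOf D k % D.ng) • ptF fu (parOf D k / D.ng) else x₀

/-- The point of a node. -/
def phi (k : ℕ) : X := ptF D gen x₀ (k + 1) k

theorem ptF_stable : ∀ (k fu : ℕ), k < fu → ptF D gen x₀ fu k = phi D gen x₀ k := by
  intro k
  induction k using Nat.strong_induction_on with
  | h k ih =>
    intro fu hk
    obtain ⟨fu, rfl⟩ : ∃ a, fu = a + 1 := ⟨fu - 1, by omega⟩
    simp only [phi, ptF]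
    split_ifs with h1 h2
    · rfl
    · rw [ih _ h2 fu (by omega), ih _ h2 k h2]
    · rfl

theorem phi_zero : phi D gen x₀ 0 = x₀ := by simp [phi, ptF]

theorem phi_par {k : ℕ} (h0 : 0 < k) (h : parOf D k / D.ng < k) :
    phi D gen x₀ k = gen (parOf D k % D.ng) • phi D gen x₀ (parOf D k / D.ng) := by
  rw [phi, ptF, if_neg (by omega), if_pos h, ptF_stable D gen x₀ _ _ h]

/-- The hypotheses: involutions, and the words fix what they should fix. -/
structure Hyp : Prop where
  inv : ∀ g, g < D.ng → gen g * gen g = 1
  rel : ∀ r, r < D.nrel → ∀ x : X,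
    act gen ((wordAt D r).1 ++ (if (wordAt D r).2.1 < D.ng then [(wordAt D r).2.1] else []) ++
      (wordAt D r).2.2) • x = x
  sub : ∀ r, D.nrel ≤ r →
    act gen ((wordAt D r).1 ++ (if (wordAt D r).2.1 < D.ng then [(wordAt D r).2.1] else []) ++
      (wordAt D r).2.2) • x₀ = x₀

/-- The claim of a slot. -/
def Claim (x g : ℕ) : Prop :=
  (g < D.ng → gen g • phi D gen x₀ x = phi D gen x₀ (valOf D (cell D x g))) ∧
    (g = D.ng → phi D gen x₀ x = phi D gen x₀ (valOf D (cell D x g)))

/-- All slots of rank below `cur` are true. -/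
def Below (cur : ℕ) : Prop :=
  ∀ x g, g ≤ D.ng → rkOf D (cell D x g) < cur → Claim D gen x₀ x g

variable {D gen x₀}

theorem step_sound {cur : ℕ} (hb : Below D gen x₀ cur) {g : ℕ} (hg : g < D.ng) :
    ∀ {fu f f' : ℕ}, step D cur g fu f = some f' →
      gen g • phi D gen x₀ f = phi D gen x₀ f'
  | 0, _, _, h => by simp [step] at h
  | fu + 1, f, f', h => by
    simp only [step, Nat.blt_eq] at h
    split_ifs at h with h1 h2
    · cases h
      exact (hb f g hg.le h1).1 hg
    · rw [(hb f D.ng le_rfl h2).2 rfl]
      exact step_sound hb hg h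

theorem root_sound {cur : ℕ} (hb : Below D gen x₀ cur) :
    ∀ (fu f : ℕ), phi D gen x₀ (root D cur fu f) = phi D gen x₀ f
  | 0, f => rfl
  | fu + 1, f => by
    simp only [root, Nat.blt_eq]
    split_ifs with h
    · rw [root_sound hb fu, ← (hb f D.ng le_rfl h).2 rfl]
    · rfl

theorem endsAt_sound {cur : ℕ} (hb : Below D gen x₀ cur) {o : Option ℕ} {y : ℕ}
    (h : endsAt D cur o y = true) : ∃ f, o = some f ∧ phi D gen x₀ f = phi D gen x₀ y := by
  cases o with
  | none => simp [endsAt] at h
  | some f =>
    simp only [endsAt, Nat.beq_eq] at h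
    exact ⟨f, rfl, by rw [← root_sound hb fuel f, h, root_sound hb]⟩

theorem walk_sound {cur : ℕ} (hb : Below D gen x₀ cur) :
    ∀ {w : List ℕ} {f f' : ℕ}, (∀ g ∈ w, g < D.ng) → walk D cur f w = some f' →
      act gen w • phi D gen x₀ f = phi D gen x₀ f'
  | [], f, f', _, h => by simp [walk] at h; simp [act_nil, h]
  | g :: w, f, f', hw, h => by
    simp only [walk] at h
    cases hs : step D cur g fuel f with
    | none => rw [hs] at h; simp at h
    | some f1 =>
      rw [hs] at h
      rw [act_cons, mul_smul, step_sound hb (hw g (by simp)) hs]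
      exact walk_sound hb (fun a ha => hw a (by simp [ha])) h

/-- All letters of all words are generators. -/
def wordsOk (D : Data) : Bool :=
  D.words.all fun L => L.all fun w => w.1.all (fun g => Nat.blt g D.ng) &&
    w.2.2.all (fun g => Nat.blt g D.ng) && Nat.ble w.2.1 D.ng

theorem wordsOk_spec (h : wordsOk D = true) (hng : 0 < D.ng) (r : ℕ) :
    (∀ g ∈ (wordAt D r).1, g < D.ng) ∧ (∀ g ∈ (wordAt D r).2.2, g < D.ng) ∧
      (wordAt D r).2.1 ≤ D.ng := by
  simp only [wordsOk, List.all_eq_true, Bool.and_eq_true, Nat.blt_eq, Nat.ble_eq] at h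
  rw [wordAt]
  by_cases h1 : r / 16 < D.words.length
  · rw [List.getD_eq_getElem _ _ h1]
    by_cases h2 : r % 16 < (D.words[r / 16]).length
    · rw [List.getD_eq_getElem _ _ h2]
      obtain ⟨⟨a, b⟩, c⟩ := h _ (List.getElem_mem h1) _ (List.getElem_mem h2)
      exact ⟨a, b, c⟩
    · rw [List.getD_eq_default _ _ (by omega)]
      simp [hng.le]
  · rw [List.getD_eq_default _ _ (show D.words.length ≤ r / 16 by omega)]
    simp [hng.le]

theorem gen_cancel (H : Hyp D gen x₀) {g : ℕ} (hg : g < D.ng) (x : X) : gen g • gen g • x = x := by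
  rw [← mul_smul, H.inv g hg, one_smul]

/-- A checked slot is true if the slots of smaller rank are. -/
theorem slotOk_sound (H : Hyp D gen x₀) (hw : wordsOk D = true) (hng : 0 < D.ng) {x g : ℕ}
    (hg : g ≤ D.ng) (h : slotOk D x g = true) (hne : rkOf D (cell D x g) + 1 ≠ D.rm)
    (hb : Below D gen x₀ (rkOf D (cell D x g))) : Claim D gen x₀ x g := by
  simp only [slotOk, Bool.or_eq_true, Bool.and_eq_true, Nat.beq_eq] at h
  set c := cell D x g with hc
  set cur := rkOf D c with hcur
  set y := valOf D c with hy
  show (g < D.ng → gen g • phi D gen x₀ x = phi D gen x₀ y) ∧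
    (g = D.ng → phi D gen x₀ x = phi D gen x₀ y)
  rcases h with ((((h | ⟨-, h⟩) | ⟨-, h⟩) | ⟨-, h⟩) | ⟨-, h⟩) | ⟨-, h⟩
  · exact absurd h hne
  · simp only [ruleDef, Bool.and_eq_true, Nat.blt_eq, Nat.beq_eq] at h
    obtain ⟨⟨⟨h0, h1⟩, h2⟩, h3⟩ := h
    refine ⟨fun _ => ?_, fun e => absurd e (by omega)⟩
    have e1 : parOf D y / D.ng = x := by
      rw [h3, Nat.add_comm, Nat.add_mul_div_right _ _ hng, Nat.div_eq_of_lt h2, Nat.zero_add]
    have e2 : parOf D y % D.ng = g := by
      rw [h3, Nat.add_comm, Nat.add_mul_mod_self_right, Nat.mod_eq_of_lt h2]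
    rw [phi_par D gen x₀ h0 (by omega), e1, e2]
  · simp only [ruleMirror, Bool.and_eq_true, Nat.blt_eq] at h
    obtain ⟨h1, h2⟩ := h
    obtain ⟨f, hf, e⟩ := endsAt_sound hb h2
    refine ⟨fun _ => ?_, fun e => absurd e (by omega)⟩
    rw [← e, ← step_sound hb h1 hf, gen_cancel H h1]
  · simp only [ruleWord, Bool.and_eq_true, Nat.beq_eq, Nat.blt_eq] at h
    generalize hr : ruleOf D c / 5 = r at h
    obtain ⟨⟨h1, h2⟩, h3⟩ := h
    obtain ⟨w1, w2, -⟩ := wordsOk_spec hw hng r
    obtain ⟨f1, hf1, e1⟩ := endsAt_sound hb h2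
    obtain ⟨f2, hf2, e2⟩ := endsAt_sound hb h3
    have a1 := walk_sound hb w1 hf1
    have a2 := walk_sound hb w2 hf2
    rw [e1] at a1
    rw [e2] at a2
    have hfix : act gen ((wordAt D r).1 ++ (if (wordAt D r).2.1 < D.ng then [(wordAt D r).2.1]
        else []) ++ (wordAt D r).2.2) • phi D gen x₀ (if r < D.nrel then x else 0) =
          phi D gen x₀ (if r < D.nrel then x else 0) := by
      by_cases hrel : r < D.nrel
      · exact H.rel r hrel _
      · rw [if_neg hrel, phi_zero]
        exact H.sub r (by omega)
    generalize phi D gen x₀ (if r < D.nrel then x else 0) = p at a1 a2 hfix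
    rw [act_append, act_append, mul_smul, mul_smul, a1, h1] at hfix
    constructor
    · intro hgn
      rw [if_pos hgn, act_cons, act_nil, one_mul] at hfix
      exact smul_left_cancel _ (hfix.trans a2.symm)
    · intro hgn
      rw [if_neg (by omega), act_nil, one_smul] at hfix
      exact smul_left_cancel _ (hfix.trans a2.symm)
  · simp only [ruleCopy, Bool.and_eq_true, Nat.blt_eq, Nat.beq_eq] at h
    obtain ⟨⟨h1, h2⟩, h3⟩ := h
    obtain ⟨f, hf, e⟩ := endsAt_sound hb h3
    refine ⟨fun _ => ?_, fun e => absurd e (by omega)⟩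
    rw [← root_sound hb fuel x, ← h2, root_sound hb, ← e]
    exact step_sound hb h1 hf
  · simp only [ruleMerge, Bool.and_eq_true, Bool.or_eq_true, Nat.blt_eq, Nat.beq_eq] at h
    obtain ⟨⟨h1, h2⟩, h3⟩ := h
    have hh : ruleOf D c / 5 % D.ng < D.ng := Nat.mod_lt _ hng
    generalize ruleOf D c / 5 / D.ng = e at h2 h3
    generalize ruleOf D c / 5 % D.ng = k at h2 h3 hh
    refine ⟨fun e' => absurd e' (by omega), fun _ => ?_⟩
    have he := (hb e k hh.le h2).1 hh
    rcases h3 with ⟨ha, hb'⟩ | ⟨ha, hb'⟩ <;>
    · obtain ⟨f1, hf1, e1⟩ := endsAt_sound hb ha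
      obtain ⟨f2, hf2, e2⟩ := endsAt_sound hb hb'
      obtain rfl := Option.some.inj hf1
      have hs := step_sound hb hh hf2
      rw [root_sound hb, he, e1, e2] at hs
      first | exact hs | exact hs.symm

theorem all_claims (H : Hyp D gen x₀) (hw : wordsOk D = true) (hng : 0 < D.ng)
    (hslots : ∀ x g, g ≤ D.ng → rkOf D (cell D x g) + 1 ≠ D.rm → slotOk D x g = true) :
    ∀ cur, cur < D.rm → Below D gen x₀ cur := by
  intro cur
  induction cur with
  | zero => intro _ x g _ h; omega
  | succ c ih =>
    intro hc x g hg h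
    by_cases h' : rkOf D (cell D x g) < c
    · exact ih (by omega) x g hg h'
    · have e : rkOf D (cell D x g) = c := by omega
      exact slotOk_sound H hw hng hg (hslots x g hg (by omega)) (by omega) (e ▸ ih (by omega))

end Sound

end CfsgLib.PresCert
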