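import Cfsg.Agent.Lib.PresCert.Cox
import Cfsg.Agent.Lib.PresCert.Orbits

/-!
# Tables given by functions

The constructions for packed tables, repeated for tables whose images are computed by a function;
this is what makes checks on some tens of thousands of points affordable.
-/

set_option autoImplicit false

namespace CfsgLib.PresCert.Fast

open Cfsg.Spor

/-- A table of images given by a function. -/
structure Tab where
  /-- The number of generators. -/
  ng : ℕ
  /-- The number of points. -/
  n : ℕ
  /-- The image of a point under a generator. -/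
  img : ℕ → ℕ → ℕ

variable (T : Tab)

/-- The image of a point under a word; the head acts first. -/
def Tab.walk : ℕ → List ℕ → ℕ
  | i, [] => i
  | i, g :: w => Tab.walk (T.img g i) w

/-- The images are points and each generator is an involution, on a block of 1000 points. -/
def Tab.invBlock (b : ℕ) : Bool :=
  (List.range 1000).all fun j =>
    let i := 1000 * b + j
    !(Nat.blt i T.n) || (List.range T.ng).all fun g =>
      Nat.blt (T.img g i) T.n && Nat.beq (T.img g (T.img g i)) i

/-- A word fixes every point of a block of 1000 points. -/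
def Tab.fixBlock (w : List ℕ) (b : ℕ) : Bool :=
  (List.range 1000).all fun j =>
    let i := 1000 * b + j
    !(Nat.blt i T.n) || Nat.beq (T.walk i w) i

/-- The table is a table of involutions. -/
def Tab.Inv : Prop := ∀ b, 1000 * b < T.n → T.invBlock b = true

/-- A word fixes all points. -/
def Tab.Fix (w : List ℕ) : Prop := ∀ b, 1000 * b < T.n → T.fixBlock w b = true

variable {T}

theorem Tab.Inv.spec (h : T.Inv) {g i : ℕ} (hg : g < T.ng) (hi : i < T.n) :
    T.img g i < T.n ∧ T.img g (T.img g i) = i := by
  have hb := h (i / 1000) (by omega)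
  simp only [Tab.invBlock, List.all_eq_true, List.mem_range, Bool.or_eq_true,
    Bool.not_eq_true'] at hb
  have h' := hb (i % 1000) (Nat.mod_lt _ (by norm_num))
  rw [Nat.div_add_mod] at h'
  have h2 := (h'.resolve_left fun e => by
    have : Nat.blt i T.n = true := by rw [Nat.blt_eq]; exact hi
    rw [this] at e
    exact Bool.noConfusion e) g hg
  simp only [Bool.and_eq_true, Nat.blt_eq, Nat.beq_eq] at h2
  exact h2

theorem Tab.Fix.spec {w : List ℕ} (h : T.Fix w) {i : ℕ} (hi : i < T.n) : T.walk i w = i := by
  have hb := h (i / 1000) (by omega)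
  simp only [Tab.fixBlock, List.all_eq_true, List.mem_range, Bool.or_eq_true,
    Bool.not_eq_true'] at hb
  have h' := hb (i % 1000) (Nat.mod_lt _ (by norm_num))
  rw [Nat.div_add_mod] at h'
  have h2 := h'.resolve_left fun e => by
    have : Nat.blt i T.n = true := by rw [Nat.blt_eq]; exact hi
    rw [this] at e
    exact Bool.noConfusion e
  simpa [Nat.beq_eq] using h2

/-- The permutation of a generator; the identity for other indices. -/
def Tab.perm (h : T.Inv) (g : ℕ) : Equiv.Perm (Fin T.n) :=
  if hg : g < T.ng then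
    { toFun := fun i => ⟨T.img g i.val, (h.spec hg i.isLt).1⟩
      invFun := fun i => ⟨T.img g i.val, (h.spec hg i.isLt).1⟩
      left_inv := fun i => Fin.ext (h.spec hg i.isLt).2
      right_inv := fun i => Fin.ext (h.spec hg i.isLt).2 }
  else 1

theorem Tab.perm_apply (h : T.Inv) {g : ℕ} (hg : g < T.ng) (i : Fin T.n) :
    ((T.perm h g i : Fin T.n) : ℕ) = T.img g i.val := by
  simp [Tab.perm, dif_pos hg]

theorem Tab.perm_sq (h : T.Inv) (g : ℕ) : T.perm h g * T.perm h g = 1 := by
  by_cases hg : g < T.ng
  · ext i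
    simp [Equiv.Perm.mul_apply, T.perm_apply h hg, (h.spec hg i.isLt).2]
  · simp [Tab.perm, dif_neg hg]

variable {M : Type*} [Group M] (gen : ℕ → M)

/-- The generators act on the points as the table says. -/
structure Realised (T : Tab) (φ : M →* Equiv.Perm (Fin T.n)) : Prop where
  lt : ∀ g i, g < T.ng → i < T.n → T.img g i < T.n
  app : ∀ g, g < T.ng → ∀ i : Fin T.n, ((φ (gen g) i : Fin T.n) : ℕ) = T.img g i.val

variable {gen} {φ : M →* Equiv.Perm (Fin T.n)}

theorem Realised.act_apply (R : Realised gen T φ) : ∀ {w : List ℕ}, (∀ g ∈ w, g < T.ng) →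
    ∀ i : Fin T.n, ((φ (act gen w) i : Fin T.n) : ℕ) = T.walk i.val w
  | [], _, i => by simp [act_nil, Tab.walk]
  | g :: w, hw, i => by
    rw [act_cons, map_mul, Equiv.Perm.mul_apply,
      R.act_apply (fun a ha => hw a (by simp [ha])) _, R.app g (hw g (by simp)) i]
    rfl

/-- One level of a base: the base point, generators fixing the earlier base points, and the orbit
with its parents. -/
structure Level where
  /-- The base point. -/
  base : ℕ
  /-- Words fixing the earlier base points. -/
  gens : List (List ℕ)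
  /-- The orbit, the base point first. -/
  pts : List ℕ
  /-- The parents of the later points: a generator and an earlier point. -/
  par : List (ℕ × ℕ)

variable (T)

/-- The list has no repetitions and avoids the marked numbers. -/
def nodupB : ℕ → List ℕ → Bool
  | _, [] => true
  | seen, a :: l => !(seen.testBit a) && nodupB (seen ||| 2 ^ a) l

/-- The check of a level below the earlier base points. -/
def levelOk (fixed : List ℕ) (l : Level) : Bool :=
  l.gens.all (fun w => w.all (fun g => Nat.blt g T.ng) &&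
      fixed.all fun b => Nat.beq (T.walk b w) b) &&
    decide (l.pts.head? = some l.base) &&
    decide (l.par.length + 1 = l.pts.length) &&
    (List.range l.par.length).all (fun k =>
      let c := l.par.getD k (0, 0)
      decide (c.1 < l.gens.length ∧ c.2 ≤ k) &&
        Nat.beq (l.pts.getD (k + 1) 0) (T.walk (l.pts.getD c.2 0) (l.gens.getD c.1 []))) &&
    l.pts.all (fun p => Nat.blt p T.n) && nodupB 0 l.pts

/-- The check of all levels. -/
def levelsOk : List ℕ → List Level → Bool
  | _, [] => true
  | fixed, l :: ls => levelOk T fixed l && levelsOk (fixed ++ [l.base]) ls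

variable {T}

theorem nodupB_spec : ∀ {seen : ℕ} {l : List ℕ}, nodupB seen l = true →
    l.Nodup ∧ ∀ a ∈ l, seen.testBit a = false
  | _, [], _ => ⟨List.nodup_nil, fun a ha => absurd ha List.not_mem_nil⟩
  | seen, a :: l, h => by
    simp only [nodupB, Bool.and_eq_true, Bool.not_eq_true'] at h
    obtain ⟨h1, h2⟩ := nodupB_spec h.2
    refine ⟨List.nodup_cons.2 ⟨fun ha => ?_, h1⟩, fun b hb => ?_⟩
    · have := h2 a ha
      simp [Nat.testBit_or, Nat.testBit_two_pow_self] at this
    · rcases List.mem_cons.1 hb with rfl | hb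
      · exact h.1
      · have := h2 b hb
        simp only [Nat.testBit_or, Bool.or_eq_false_iff] at this
        exact this.1

/-- The elements fixing given points. -/
def fixSub (φ : M →* Equiv.Perm (Fin T.n)) (fixed : List ℕ) : Subgroup M where
  carrier := {m | ∀ i : Fin T.n, i.val ∈ fixed → φ m i = i}
  one_mem' i _ := by simp
  mul_mem' {a b} ha hb i hi := by rw [map_mul, Equiv.Perm.mul_apply, hb i hi, ha i hi]
  inv_mem' {a} ha i hi := by
    rw [map_inv, Equiv.Perm.inv_def, Equiv.symm_apply_eq, ha i hi]

theorem mem_fixSub {fixed : List ℕ} {m : M} :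
    m ∈ fixSub φ fixed ↔ ∀ i : Fin T.n, i.val ∈ fixed → φ m i = i := Iff.rfl

theorem fixSub_nil : fixSub φ [] = ⊤ := by
  ext m
  simp [mem_fixSub]

theorem fixSub_le {a b : List ℕ} (h : ∀ x ∈ b, x ∈ a) : fixSub φ a ≤ fixSub φ b :=
  fun _ hm i hi => hm i (h _ hi)

/-- The transversal word of the `k`-th point of a level. -/
def Level.word (l : Level) : ℕ → ℕ → List ℕ
  | 0, _ => []
  | fu + 1, k =>
    if k = 0 then [] else
      l.word fu (l.par.getD (k - 1) (0, 0)).2 ++ l.gens.getD (l.par.getD (k - 1) (0, 0)).1 []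

theorem level_spec (R : Realised gen T φ) {fixed : List ℕ} {l : Level}
    (h : levelOk T fixed l = true) :
    ∀ k < l.pts.length, ∀ fu, k < fu → (∀ g ∈ l.word fu k, g < T.ng) ∧
      act gen (l.word fu k) ∈ fixSub φ fixed ∧ T.walk l.base (l.word fu k) = l.pts.getD k 0 := by
  simp only [levelOk, Bool.and_eq_true, List.all_eq_true, Nat.blt_eq, Nat.beq_eq,
    decide_eq_true_eq, List.mem_range] at h
  obtain ⟨⟨⟨⟨⟨hgens, hhead⟩, hlen⟩, hpar⟩, hlt⟩, -⟩ := h
  have hwalk : ∀ (i : ℕ) (u v : List ℕ), T.walk i (u ++ v) = T.walk (T.walk i u) v := by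
    intro i u v
    induction u generalizing i with
    | nil => rfl
    | cons g u ih => exact ih _
  intro k
  induction k using Nat.strong_induction_on with
  | h k ih =>
    intro hk fu hfu
    obtain ⟨fu, rfl⟩ : ∃ a, fu = a + 1 := ⟨fu - 1, by omega⟩
    rcases k with _ | k
    · refine ⟨by simp [Level.word], by simp [Level.word, act_nil, mem_fixSub], ?_⟩
      cases hp : l.pts with
      | nil => rw [hp] at hhead; simp at hhead
      | cons a as => rw [hp] at hhead; simp at hhead; simp [Level.word, Tab.walk, hhead]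
    · obtain ⟨⟨h1, h2⟩, h3⟩ := hpar k (by omega)
      obtain ⟨i1, i2, i3⟩ := ih _ (Nat.lt_succ_of_le h2) (by omega) fu (by omega)
      have hw : l.word (fu + 1) (k + 1) = l.word fu (l.par.getD k (0, 0)).2 ++
          l.gens.getD (l.par.getD k (0, 0)).1 [] := by
        simp [Level.word]
      obtain ⟨g1, g2⟩ := hgens (l.gens.getD (l.par.getD k (0, 0)).1 []) (by
        rw [List.getD_eq_getElem _ _ h1]; exact List.getElem_mem h1)
      rw [hw]
      refine ⟨fun g hg => ?_, ?_, ?_⟩
      · rcases List.mem_append.1 hg with hg | hg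
        exacts [i1 g hg, g1 g hg]
      · rw [act_append]
        refine Subgroup.mul_mem _ (fun i hi => Fin.ext ?_) i2
        rw [R.act_apply g1 i, g2 _ hi]
      · rw [hwalk, i3, h3]

/-- A group is at least as large as the product of the orbit lengths along a base. -/
theorem card_lower [Finite M] (R : Realised gen T φ) :
    ∀ {fixed : List ℕ} {ls : List Level}, levelsOk T fixed ls = true →
      (ls.map fun l => l.pts.length).prod * Nat.card (fixSub φ (fixed ++ ls.map Level.base)) ≤
        Nat.card (fixSub φ fixed)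
  | fixed, [], _ => by simp
  | fixed, l :: ls, h => by
    simp only [levelsOk, Bool.and_eq_true] at h
    obtain ⟨hl, hls⟩ := h
    have ih := card_lower R hls
    rw [List.append_assoc, List.singleton_append] at ih
    rw [List.map_cons, List.map_cons, List.prod_cons, mul_assoc]
    refine le_trans (Nat.mul_le_mul_left _ ih) ?_
    set S := fixSub φ fixed with hS
    letI : MulAction S (Fin T.n) := MulAction.compHom _ (φ.comp S.subtype)
    have hspec := level_spec R hl
    simp only [levelOk, Bool.and_eq_true, List.all_eq_true, Nat.blt_eq, decide_eq_true_eq] at hl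
    obtain ⟨⟨⟨⟨⟨-, hhead⟩, -⟩, -⟩, hlt⟩, hnd'⟩ := hl
    have hnd := (nodupB_spec hnd').1
    have hb : l.base < T.n := hlt _ (List.mem_of_mem_head? hhead)
    let f : Fin l.pts.length → MulAction.orbit S (⟨l.base, hb⟩ : Fin T.n) := fun k =>
      ⟨⟨l.pts[k.val], hlt _ (List.getElem_mem _)⟩, by
        obtain ⟨w1, w2, w3⟩ := hspec k.val k.isLt (k.val + 1) (Nat.lt_succ_self _)
        refine ⟨⟨_, w2⟩, Fin.ext ?_⟩
        show ((φ (act gen _) ⟨l.base, hb⟩ : Fin T.n) : ℕ) = _
        rw [R.act_apply w1, w3, List.getD_eq_getElem _ _ k.isLt]⟩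
    have hf : Function.Injective f := fun a b e => by
      have e' : l.pts[a.val] = l.pts[b.val] :=
        congrArg (fun z : MulAction.orbit S _ => (z.val : Fin T.n).val) e
      exact Fin.ext ((hnd.getElem_inj_iff).1 e')
    have h1 := Nat.card_le_card_of_injective f hf
    rw [Nat.card_fin] at h1
    have hst : Nat.card (MulAction.stabilizer S (⟨l.base, hb⟩ : Fin T.n)) =
        Nat.card (fixSub φ (fixed ++ [l.base])) := by
      refine Nat.card_congr
        { toFun := fun m => ⟨m.val.val, fun i hi => ?_⟩
          invFun := fun m => ⟨⟨m.val, fixSub_le (fun x hx => by simp [hx]) m.2⟩, ?_⟩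
          left_inv := fun m => rfl
          right_inv := fun m => rfl }
      · rcases List.mem_append.1 hi with hi | hi
        · exact m.val.2 i hi
        · have e : i = ⟨l.base, hb⟩ := Fin.ext (List.mem_singleton.1 hi)
          rw [e]
          exact m.2
      · exact m.2 ⟨l.base, hb⟩ (by simp)
    rw [← hst]
    have h2 := Nat.card_congr (MulAction.orbitProdStabilizerEquivGroup S (⟨l.base, hb⟩ : Fin T.n))
    rw [Nat.card_prod] at h2
    exact h2 ▸ Nat.mul_le_mul_right _ h1

theorem fixSub_card_pos [Finite M] (fixed : List ℕ) : 1 ≤ Nat.card (fixSub φ fixed) := Nat.card_pos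

/-- With a tight base the last stabiliser is trivial. -/
theorem base_tight [Finite M] (R : Realised gen T φ) {fixed : List ℕ} {ls : List Level}
    (h : levelsOk T fixed ls = true)
    (hle : Nat.card (fixSub φ fixed) ≤ (ls.map fun l => l.pts.length).prod) :
    Nat.card (fixSub φ fixed) = (ls.map fun l => l.pts.length).prod ∧
      fixSub φ (fixed ++ ls.map Level.base) = ⊥ := by
  have h1 := card_lower R h
  have h2 := fixSub_card_pos (φ := φ) (fixed ++ ls.map Level.base)
  have hpos : 0 < (ls.map fun l => l.pts.length).prod :=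
    lt_of_lt_of_le (fixSub_card_pos (φ := φ) fixed) hle
  refine ⟨le_antisymm hle (le_trans (Nat.le_mul_of_pos_right _ h2) h1), ?_⟩
  refine Subgroup.card_eq_one.1 (le_antisymm ?_ h2)
  by_contra h3
  have := Nat.mul_le_mul_left (ls.map fun l => l.pts.length).prod (Nat.lt_of_not_le h3)
  omega

variable (T)

/-- A spanning tree of all the points, on a block of 1000. -/
def treeBlock (par : ℕ → ℕ) (b : ℕ) : Bool :=
  (List.range 1000).all fun j =>
    let k := 1000 * b + j
    let p := par k
    !(Nat.blt (k + 1) T.n) || Nat.blt (p % T.ng) T.ng && Nat.ble (p / T.ng) k &&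
      Nat.beq (T.img (p % T.ng) (p / T.ng)) (k + 1)

variable {T}

/-- A transitive action: the order is the degree times the order of a point stabiliser. -/
theorem card_trans [Finite M] (R : Realised gen T φ) {par : ℕ → ℕ}
    (h0 : 0 < T.n) (h : ∀ b, 1000 * b < T.n → treeBlock T par b = true) :
    (∀ i j : Fin T.n, ∃ m, φ m i = j) ∧ Nat.card M = T.n * Nat.card (fixSub φ [0]) := by
  have hreach : ∀ k (hk : k < T.n), ∃ m, φ m ⟨0, h0⟩ = (⟨k, hk⟩ : Fin T.n) := by
    intro k
    induction k using Nat.strong_induction_on with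
    | h k ih =>
      intro hk
      rcases k with _ | k
      · exact ⟨1, by simp⟩
      · have hb := h (k / 1000) (by omega)
        simp only [treeBlock, List.all_eq_true, List.mem_range, Bool.or_eq_true,
          Bool.not_eq_true'] at hb
        have h' := hb (k % 1000) (Nat.mod_lt _ (by norm_num))
        rw [Nat.div_add_mod] at h'
        have h2 := h'.resolve_left fun e => by
          have : Nat.blt (k + 1) T.n = true := by rw [Nat.blt_eq]; exact hk
          rw [this] at e
          exact Bool.noConfusion e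
        simp only [Bool.and_eq_true, Nat.blt_eq, Nat.ble_eq, Nat.beq_eq] at h2
        obtain ⟨⟨h3, h4⟩, h5⟩ := h2
        obtain ⟨m, hm⟩ := ih _ (Nat.lt_succ_of_le h4) (by omega)
        refine ⟨gen (par k % T.ng) * m, Fin.ext ?_⟩
        rw [map_mul, Equiv.Perm.mul_apply, hm, R.app _ h3]
        exact h5
  refine ⟨fun i j => ?_, ?_⟩
  · obtain ⟨a, ha⟩ := hreach i.val i.isLt
    obtain ⟨b, hb⟩ := hreach j.val j.isLt
    refine ⟨b * a⁻¹, ?_⟩
    rw [map_mul, Equiv.Perm.mul_apply, map_inv, Equiv.Perm.inv_def]
    rw [(Equiv.symm_apply_eq _).2 (show i = φ a ⟨0, h0⟩ from ha.symm), hb]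
  · letI : MulAction M (Fin T.n) := MulAction.compHom _ φ
    have horb : MulAction.orbit M (⟨0, h0⟩ : Fin T.n) = Set.univ :=
      Set.eq_univ_of_forall fun j => hreach j.val j.isLt
    have h2 := Nat.card_congr (MulAction.orbitProdStabilizerEquivGroup M (⟨0, h0⟩ : Fin T.n))
    rw [Nat.card_prod, horb, Nat.card_congr (Equiv.Set.univ _), Nat.card_fin] at h2
    rw [← h2]
    congr 1
    refine Nat.card_congr (Equiv.subtypeEquivRight fun m => ?_)
    rw [MulAction.mem_stabilizer_iff, mem_fixSub]
    exact ⟨fun e i hi => by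
      have : i = ⟨0, h0⟩ := Fin.ext (List.mem_singleton.1 hi)
      subst this; exact e, fun e => e ⟨0, h0⟩ (by simp)⟩

/-- With a tight base, an element fixing some initial base points moves the next one inside the
listed orbit. -/
theorem orbit_exact [Finite M] (R : Realised gen T φ) :
    ∀ {fixed : List ℕ} {ls : List Level}, levelsOk T fixed ls = true →
      Nat.card (fixSub φ fixed) ≤ (ls.map fun l => l.pts.length).prod →
      ∀ m ∈ fixSub φ fixed, ∀ l ls', ls = l :: ls' → ∀ i : Fin T.n, i.val = l.base →
        ((φ m i : Fin T.n) : ℕ) ∈ l.pts ∧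
          Nat.card (fixSub φ (fixed ++ [l.base])) ≤ (ls'.map fun l => l.pts.length).prod
  | fixed, ls, hok, hle, m, hm, l, ls', hls, i, hi => by
    subst hls
    simp only [levelsOk, Bool.and_eq_true] at hok
    obtain ⟨hl, hrest⟩ := hok
    have hlow := card_lower R hrest
    have hspec := level_spec R hl
    simp only [levelOk, Bool.and_eq_true, List.all_eq_true, Nat.blt_eq, decide_eq_true_eq] at hl
    obtain ⟨⟨⟨⟨⟨-, hhead⟩, -⟩, -⟩, hlt⟩, hnd'⟩ := hl
    have hnd := (nodupB_spec hnd').1
    set S := fixSub φ fixed with hS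
    letI : MulAction S (Fin T.n) := MulAction.compHom _ (φ.comp S.subtype)
    classical
    let O : Finset (Fin T.n) := Finset.univ.filter fun j => j ∈ MulAction.orbit S i
    let L : Finset (Fin T.n) := Finset.univ.filter fun j => j.val ∈ l.pts
    have hLO : L ⊆ O := by
      intro j hj
      obtain ⟨k, hk, e⟩ := List.getElem_of_mem (Finset.mem_filter.1 hj).2
      obtain ⟨w1, w2, w3⟩ := hspec k hk (k + 1) (Nat.lt_succ_self _)
      refine Finset.mem_filter.2 ⟨Finset.mem_univ _, ⟨_, w2⟩, Fin.ext ?_⟩
      show ((φ (act gen _) i : Fin T.n) : ℕ) = _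
      rw [R.act_apply w1, hi, w3, List.getD_eq_getElem _ _ hk, e]
    have hLcard : L.card = l.pts.length := by
      rw [← List.toFinset_card_of_nodup hnd]
      refine Finset.card_bij (fun j _ => j.val) (fun j hj => List.mem_toFinset.2 (Finset.mem_filter.1 hj).2)
        (fun a _ b _ e => Fin.ext e) fun v hv => ?_
      exact ⟨⟨v, hlt v (List.mem_toFinset.1 hv)⟩,
        Finset.mem_filter.2 ⟨Finset.mem_univ _, List.mem_toFinset.1 hv⟩, rfl⟩
    have hst : Nat.card (MulAction.stabilizer S i) = Nat.card (fixSub φ (fixed ++ [l.base])) := by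
      refine Nat.card_congr
        { toFun := fun m => ⟨m.val.val, fun j hj => ?_⟩
          invFun := fun m => ⟨⟨m.val, fixSub_le (fun x hx => by simp [hx]) m.2⟩, ?_⟩
          left_inv := fun m => rfl
          right_inv := fun m => rfl }
      · rcases List.mem_append.1 hj with hj | hj
        · exact m.val.2 j hj
        · have e : j = i := Fin.ext ((List.mem_singleton.1 hj).trans hi.symm)
          rw [e]
          exact m.2
      · exact m.2 i (by simp [hi])
    have hmem : φ m i ∈ O := Finset.mem_filter.2 ⟨Finset.mem_univ _, ⟨⟨m, hm⟩, rfl⟩⟩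
    have h2 := Nat.card_congr (MulAction.orbitProdStabilizerEquivGroup S i)
    rw [Nat.card_prod, hst, show Nat.card (MulAction.orbit S i) = O.card by
      rw [Nat.card_eq_fintype_card, ← Set.toFinset_card]
      exact congrArg Finset.card (Finset.ext fun j => by simp [O])] at h2
    rw [List.map_cons, List.prod_cons] at hle
    have hpos := fixSub_card_pos (φ := φ) ((fixed ++ [l.base]) ++ ls'.map Level.base)
    have hP : (ls'.map fun l => l.pts.length).prod ≤ Nat.card (fixSub φ (fixed ++ [l.base])) :=
      le_trans (Nat.le_mul_of_pos_right _ hpos) hlow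
    have hpl : 0 < l.pts.length := List.length_pos_of_mem (List.mem_of_mem_head? hhead)
    have hOL := Finset.card_le_card hLO
    rw [hLcard] at hOL
    rw [← h2] at hle
    have hstle : Nat.card (fixSub φ (fixed ++ [l.base])) ≤ (ls'.map fun l => l.pts.length).prod :=
      Nat.le_of_mul_le_mul_left (le_trans (Nat.mul_le_mul_right _ hOL) hle) hpl
    refine ⟨?_, hstle⟩
    have hOle : O.card ≤ l.pts.length := by
      have h3 := Nat.card_pos (α := fixSub φ (fixed ++ [l.base]))
      refine Nat.le_of_mul_le_mul_right (le_trans hle ?_) h3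
      exact Nat.mul_le_mul_left _ hP
    have hOeq : L = O := Finset.eq_of_subset_of_card_le hLO (by omega)
    rw [← hOeq] at hmem
    exact (Finset.mem_filter.1 hmem).2

/-- With a tight base, the stabiliser is inside any subgroup containing the level generators. -/
theorem fixSub_le_of_gens [Finite M] (R : Realised gen T φ) {S : Subgroup M} :
    ∀ {fixed : List ℕ} {ls : List Level}, levelsOk T fixed ls = true →
      (∀ l ∈ ls, ∀ w ∈ l.gens, act gen w ∈ S) →
      fixSub φ (fixed ++ ls.map Level.base) ≤ S →
      Nat.card (fixSub φ fixed) ≤ (ls.map fun l => l.pts.length).prod →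
      fixSub φ fixed ≤ S
  | fixed, [], _, _, h, _ => by simpa using h
  | fixed, l :: ls, hok, hg, hlast, hle => by
    have hok0 := hok
    simp only [levelsOk, Bool.and_eq_true] at hok
    obtain ⟨hl, hrest⟩ := hok
    have hspec := level_spec R hl
    have hwS : ∀ fu k, act gen (l.word fu k) ∈ S := by
      intro fu
      induction fu with
      | zero => intro k; simp [Level.word, act_nil]
      | succ fu ih' =>
        intro k
        simp only [Level.word]
        split_ifs
        · simp [act_nil]
        · rw [act_append]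
          refine Subgroup.mul_mem _ ?_ (ih' _)
          by_cases hc : (l.par.getD (k - 1) (0, 0)).1 < l.gens.length
          · rw [List.getD_eq_getElem _ _ hc]
            exact hg l List.mem_cons_self _ (List.getElem_mem hc)
          · rw [List.getD_eq_default _ _ (Nat.le_of_not_lt hc), act_nil]
            exact Subgroup.one_mem _
    simp only [levelOk, Bool.and_eq_true, List.all_eq_true, Nat.blt_eq, decide_eq_true_eq] at hl
    obtain ⟨⟨⟨⟨⟨-, hhead⟩, -⟩, -⟩, hlt⟩, -⟩ := hl
    have hb : l.base < T.n := hlt _ (List.mem_of_mem_head? hhead)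
    intro m hm
    obtain ⟨hmem, hle'⟩ := orbit_exact R hok0 hle m hm l ls rfl ⟨l.base, hb⟩ rfl
    have ih : fixSub φ (fixed ++ [l.base]) ≤ S :=
      fixSub_le_of_gens R hrest (fun l' hl' => hg l' (List.mem_cons_of_mem _ hl'))
        (by simpa using hlast) hle'
    obtain ⟨k, hk, e⟩ := List.getElem_of_mem hmem
    obtain ⟨w1, w2, w3⟩ := hspec k hk (k + 1) (Nat.lt_succ_self _)
    rw [List.getD_eq_getElem _ _ hk, e] at w3
    have hm' : (act gen (l.word (k + 1) k))⁻¹ * m ∈ fixSub φ (fixed ++ [l.base]) := by
      intro i hi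
      rcases List.mem_append.1 hi with hi | hi
      · exact Subgroup.mul_mem _ (Subgroup.inv_mem _ w2) hm i hi
      · have e' : i = ⟨l.base, hb⟩ := Fin.ext (List.mem_singleton.1 hi)
        subst e'
        rw [map_mul, Equiv.Perm.mul_apply, map_inv, Equiv.Perm.inv_def, Equiv.symm_apply_eq]
        exact Fin.ext (by rw [R.act_apply w1, w3])
    have := Subgroup.mul_mem _ (hwS (k + 1) k) (ih hm')
    rwa [mul_inv_cancel_left] at this

/-- Labels of the points with a forest: the root of each label, and for every other point a parent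
and the number of a word carrying it there. -/
structure Forest where
  /-- The words generating the subgroup. -/
  words : List (List ℕ)
  /-- The label of a point. -/
  lab : ℕ → ℕ
  /-- The distance from the root. -/
  depth : ℕ → ℕ
  /-- The parent. -/
  parent : ℕ → ℕ
  /-- The word leading from the parent. -/
  via : ℕ → ℕ
  /-- The roots. -/
  roots : List ℕ

variable (T : Tab) (F : Forest)

/-- The check at a block of 1000 points. -/
def forestBlock (b : ℕ) : Bool :=
  (List.range 1000).all fun j =>
    let p := 1000 * b + j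
    !(Nat.blt p T.n) ||
      (F.words.all fun w => Nat.beq (F.lab (T.walk p w)) (F.lab p)) &&
      Nat.blt (F.lab p) F.roots.length &&
      (Nat.beq p (F.roots.getD (F.lab p) 0) ||
        Nat.blt (F.depth (F.parent p)) (F.depth p) && Nat.blt (F.via p) F.words.length &&
          Nat.beq (F.lab (F.parent p)) (F.lab p) && Nat.blt (F.parent p) T.n &&
          Nat.beq (T.walk (F.parent p) (F.words.getD (F.via p) [])) p)

/-- The shape check. -/
def forestShape : Bool :=
  F.words.all (fun w => w.all fun g => Nat.blt g T.ng) &&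
    (List.range F.roots.length).all fun k =>
      Nat.blt (F.roots.getD k 0) T.n && Nat.beq (F.lab (F.roots.getD k 0)) k

variable {T F}

/-- The checks of a forest. -/
structure ForestOk (T : Tab) (F : Forest) : Prop where
  shape : forestShape T F = true
  blocks : ∀ b, 1000 * b < T.n → forestBlock T F b = true

theorem ForestOk.word_lt (h : ForestOk T F) {w : List ℕ} (hw : w ∈ F.words) :
    ∀ g ∈ w, g < T.ng := by
  have h1 := h.shape
  simp only [forestShape, Bool.and_eq_true, List.all_eq_true, Nat.blt_eq] at h1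
  exact h1.1 w hw

theorem ForestOk.root (h : ForestOk T F) {k : ℕ} (hk : k < F.roots.length) :
    F.roots.getD k 0 < T.n ∧ F.lab (F.roots.getD k 0) = k := by
  have h1 := h.shape
  simp only [forestShape, Bool.and_eq_true, List.all_eq_true, List.mem_range, Nat.blt_eq,
    Nat.beq_eq] at h1
  exact h1.2 k hk

theorem ForestOk.spec (h : ForestOk T F) {p : ℕ} (hp : p < T.n) :
    (∀ w ∈ F.words, F.lab (T.walk p w) = F.lab p) ∧ F.lab p < F.roots.length ∧
    (p = F.roots.getD (F.lab p) 0 ∨ ∃ q, q < T.n ∧ F.depth q < F.depth p ∧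
      F.lab q = F.lab p ∧ ∃ w ∈ F.words, T.walk q w = p) := by
  have hb := h.blocks (p / 1000) (by omega)
  simp only [forestBlock, List.all_eq_true, List.mem_range, Bool.or_eq_true, Bool.and_eq_true,
    Bool.not_eq_true', Nat.blt_eq, Nat.beq_eq] at hb
  have h' := hb (p % 1000) (Nat.mod_lt _ (by norm_num))
  rw [Nat.div_add_mod] at h'
  rcases h' with h1 | ⟨⟨h1, h2⟩, h3⟩
  · have : Nat.blt p T.n = true := by rw [Nat.blt_eq]; exact hp
    rw [this] at h1
    exact Bool.noConfusion h1
  refine ⟨h1, h2, h3.imp id fun h => ?_⟩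
  obtain ⟨⟨⟨⟨a, b⟩, c⟩, d⟩, e⟩ := h
  exact ⟨_, d, a, c, _, by
    rw [List.getD_eq_getElem _ _ b]; exact List.getElem_mem _, e⟩

variable {M : Type*} [Group M] {gen : ℕ → M} {φ : M →* Equiv.Perm (Fin T.n)}

/-- The label is invariant under the subgroup. -/
theorem ForestOk.invariant (h : ForestOk T F) (R : Realised gen T φ) {m : M}
    (hm : m ∈ genGrp F.words gen) : ∀ p : Fin T.n, F.lab (φ m p).val = F.lab p.val := by
  induction hm using Subgroup.closure_induction with
  | mem s hs =>
    obtain ⟨w, hw, rfl⟩ := hs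
    intro p
    rw [R.act_apply (h.word_lt hw)]
    exact (h.spec p.isLt).1 w hw
  | one => intro p; simp
  | mul a b _ _ ha hb => intro p; rw [map_mul, Equiv.Perm.mul_apply, ha, hb]
  | inv a _ ha =>
    intro p
    have := ha (φ a⁻¹ p)
    rw [← Equiv.Perm.mul_apply, ← map_mul, mul_inv_cancel, map_one, Equiv.Perm.one_apply] at this
    exact this.symm

/-- Every point is reached from the root of its label. -/
theorem ForestOk.reach (h : ForestOk T F) (R : Realised gen T φ) (p : Fin T.n) :
    ∃ m ∈ genGrp F.words gen,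
      φ m ⟨F.roots.getD (F.lab p.val) 0, (h.root (h.spec p.isLt).2.1).1⟩ = p := by
  suffices ∀ d, ∀ p : Fin T.n, F.depth p.val = d → ∃ m ∈ genGrp F.words gen,
      φ m ⟨F.roots.getD (F.lab p.val) 0, (h.root (h.spec p.isLt).2.1).1⟩ = p from this _ p rfl
  intro d
  induction d using Nat.strong_induction_on with
  | h d ih =>
    intro p hd
    rcases (h.spec p.isLt).2.2 with h0 | ⟨q, hq, hlt, hl, w, hw, e⟩
    · refine ⟨1, Subgroup.one_mem _, Fin.ext ?_⟩
      rw [map_one, Equiv.Perm.one_apply]
      exact h0.symm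
    · obtain ⟨m, hm, hmq⟩ := ih _ (hd ▸ hlt) ⟨q, hq⟩ rfl
      refine ⟨act gen w * m, Subgroup.mul_mem _ (Subgroup.subset_closure ⟨w, hw, rfl⟩) hm,
        Fin.ext ?_⟩
      simp only [hl] at hmq
      rw [map_mul, Equiv.Perm.mul_apply, hmq, R.act_apply (h.word_lt hw)]
      exact e

/-- The orbit of a subgroup generated by the words has as many points as carry the label. -/
theorem ForestOk.orbit_card (h : ForestOk T F) (R : Realised gen T φ) (p : Fin T.n) :
    {q : Fin T.n | ∃ m ∈ genGrp F.words gen, φ m p = q}.ncard =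
      ((List.range T.n).filter fun q => Nat.beq (F.lab q) (F.lab p.val)).length := by
  classical
  rw [← List.toFinset_card_of_nodup (List.nodup_range.filter _), ← Set.ncard_coe_finset]
  refine Set.ncard_congr (fun q _ => q.val) (fun q hq => ?_) (fun a b _ _ e => Fin.ext e)
    fun v hv => ?_
  · obtain ⟨m, hm, rfl⟩ := hq
    simp only [Finset.mem_coe, List.mem_toFinset, List.mem_filter, List.mem_range, Nat.beq_eq]
    exact ⟨Fin.isLt _, h.invariant R hm p⟩
  · simp only [Finset.mem_coe, List.mem_toFinset, List.mem_filter, List.mem_range,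
      Nat.beq_eq] at hv
    obtain ⟨m, hm, hmp⟩ := h.reach R p
    obtain ⟨m', hm', hmv⟩ := h.reach R ⟨v, hv.1⟩
    refine ⟨⟨v, hv.1⟩, ⟨m' * m⁻¹, Subgroup.mul_mem _ hm' (Subgroup.inv_mem _ hm), ?_⟩, rfl⟩
    rw [map_mul, Equiv.Perm.mul_apply, map_inv, Equiv.Perm.inv_def,
      (Equiv.symm_apply_eq _).2 hmp.symm]
    simp only [hv.2] at hmv
    exact hmv

/-- The orbits of a point stabiliser on its cosets. -/
theorem ForestOk.coset_orbit (h : ForestOk T F) (R : Realised gen T φ) (h0 : 0 < T.n)
    (hsub : genGrp F.words gen = fixSub φ [0]) (htrans : ∀ i j : Fin T.n, ∃ m, φ m i = j)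
    (p : Fin T.n) :
    ∃ q : M ⧸ genGrp F.words gen,
      (MulAction.orbit (genGrp F.words gen) q).ncard =
        ((List.range T.n).filter fun i => Nat.beq (F.lab i) (F.lab p.val)).length ∧
      ∀ m : M, (m : M ⧸ genGrp F.words gen) ∈ MulAction.orbit (genGrp F.words gen) q →
        F.lab (φ m ⟨0, h0⟩).val = F.lab p.val := by
  set z : Fin T.n := ⟨0, h0⟩ with hz
  obtain ⟨m₀, hm₀⟩ := htrans z p
  have hker : ∀ a b : M, (a : M ⧸ genGrp F.words gen) = b ↔ φ a z = φ b z := by
    intro a b
    rw [QuotientGroup.eq, hsub, mem_fixSub]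
    constructor
    · intro h
      have h' := h z (List.mem_singleton.2 rfl)
      rw [map_mul, Equiv.Perm.mul_apply, map_inv, Equiv.Perm.inv_def, Equiv.symm_apply_eq] at h'
      exact h'.symm
    · intro h i hi
      have hiz : i = z := Fin.ext (List.mem_singleton.1 hi)
      subst hiz
      rw [map_mul, Equiv.Perm.mul_apply, ← h, map_inv, Equiv.Perm.inv_def, Equiv.symm_apply_apply]
  refine ⟨(m₀ : M ⧸ genGrp F.words gen), ?_, fun m hm => ?_⟩
  · rw [← h.orbit_card R p]
    refine Set.ncard_congr (fun r _ => φ r.out z) (fun r hr => ?_) (fun a b _ _ e => ?_)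
      fun v hv => ?_
    · obtain ⟨⟨a, ha⟩, rfl⟩ := hr
      refine ⟨a, ha, ?_⟩
      have e : ((((⟨a, ha⟩ : genGrp F.words gen) • (m₀ : M ⧸ genGrp F.words gen)).out : M) :
          M ⧸ genGrp F.words gen) = ((a * m₀ : M) : M ⧸ genGrp F.words gen) :=
        QuotientGroup.out_eq' _
      rw [(hker _ _).1 e, map_mul, Equiv.Perm.mul_apply, hm₀]
    · rw [← QuotientGroup.out_eq' a, ← QuotientGroup.out_eq' b, hker]
      exact e
    · obtain ⟨a, ha, rfl⟩ := hv
      refine ⟨((a * m₀ : M) : M ⧸ genGrp F.words gen), ⟨⟨a, ha⟩, rfl⟩, ?_⟩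
      show φ (((a * m₀ : M) : M ⧸ genGrp F.words gen)).out z = φ a p
      rw [(hker _ _).1 (QuotientGroup.out_eq' _), map_mul, Equiv.Perm.mul_apply, hm₀]
  · obtain ⟨⟨a, ha⟩, e⟩ := hm
    have e' : ((a * m₀ : M) : M ⧸ genGrp F.words gen) = (m : M ⧸ genGrp F.words gen) := e
    rw [← (hker _ _).1 e', map_mul, Equiv.Perm.mul_apply, hm₀, h.invariant R ha]

variable {P : CoxData} (hT : T.Inv)

theorem lift_eq_act (L : List (P.Gen × Bool)) :
    FreeGroup.lift (fun x => T.perm hT (P.ix x)) (FreeGroup.mk L) =
      act (T.perm hT) (L.map fun p => P.ix p.1).reverse := by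
  induction L with
  | nil =>
    rw [← FreeGroup.one_eq_mk, map_one]
    rfl
  | cons p L ih =>
    obtain ⟨x, b⟩ := p
    rw [show FreeGroup.mk ((x, b) :: L) = FreeGroup.mk [(x, b)] * FreeGroup.mk L from rfl, map_mul,
      ih, List.map_cons, List.reverse_cons, act_append, act_cons, act_nil, one_mul]
    congr 1
    cases b
    · have e : FreeGroup.mk [(x, false)] = (FreeGroup.of x)⁻¹ := rfl
      rw [e, map_inv, FreeGroup.lift_apply_of]
      exact inv_eq_of_mul_eq_one_right (T.perm_sq hT _)
    · exact FreeGroup.lift_apply_of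

theorem perm_rels (hng : T.ng = P.ng) {D : List (List ℕ)} (hD : P.covered D = true)
    (hfix : ∀ w ∈ D, ∀ i < T.n, T.walk i w = i) : ∀ w ∈ P.rels, act (T.perm hT) w = 1 := by
  intro w hw
  simp only [CoxData.covered, List.all_eq_true, Bool.and_eq_true, Bool.or_eq_true, Nat.blt_eq,
    List.contains_iff_mem] at hD
  obtain ⟨hlt, hmem⟩ := hD w hw
  have R : Realised (T.perm hT) T (MonoidHom.id _) :=
    ⟨fun _ _ hg hi => (hT.spec hg hi).1, fun _ hg i => T.perm_apply hT hg i⟩
  have one : ∀ v : List ℕ, (∀ g ∈ v, g < P.ng) → v ∈ D → act (T.perm hT) v = 1 := by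
    intro v hv hvm
    refine Equiv.ext fun i => Fin.ext ?_
    have h1 := R.act_apply (w := v) (fun g hg => hng ▸ hv g hg) i
    rw [MonoidHom.id_apply] at h1
    rw [h1, hfix v hvm i.val i.isLt]
    rfl
  rcases hmem with hm | hm
  · exact one w hlt hm
  · have h2 := one w.reverse (fun g hg => hlt g (List.mem_reverse.1 hg)) hm
    rw [act_reverse (ng := P.ng) (fun g _ => T.perm_sq hT g) hlt, inv_eq_one] at h2
    exact h2

/-- The action of the presented group on the points of a table. -/
def toPerm (hrel : ∀ w ∈ P.rels, act (T.perm hT) w = 1) : P.Grp →* Equiv.Perm (Fin T.n) :=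
  PresentedGroup.toGroup (f := fun x => T.perm hT (P.ix x)) fun r hr => by
    rw [← FreeGroup.mk_toWord (x := r), lift_eq_act hT]
    exact hrel _ (List.mem_map.2 ⟨r, CoxData.relList_mem.2 hr, rfl⟩)

theorem realised_toPerm (H : P.Ok) (hng : T.ng = P.ng)
    (hrel : ∀ w ∈ P.rels, act (T.perm hT) w = 1) : Realised P.gen T (toPerm hT hrel) := by
  refine ⟨fun _ _ hg hi => (hT.spec hg hi).1, fun g hg i => ?_⟩
  rw [CoxData.gen, toPerm, PresentedGroup.toGroup.of, H.ix_at g (hng ▸ hg), T.perm_apply hT hg]

end CfsgLib.PresCert.Fast
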