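import Cfsg.Agent.Lib.PresCert.Table
import Cfsg.Agent.Lib.Golay.SimpleCriterion

/-!
# Self-centralising elements and simplicity of a transitive group

An element of prime order fixing one point only, its cycles on the first orbit of the stabiliser
and a failing search certify that it is self-centralising.
-/

set_option autoImplicit false

namespace CfsgLib.PresCert

variable (T : Tab)

/-- The word fixes the first point only, on a block of 1000 points. -/
def moveBlock (xw : List ℕ) (b : ℕ) : Bool :=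
  (List.range 1000).all fun j =>
    let i := 1000 * b + j
    !(Nat.blt i T.n) || Nat.beq i 0 || !(Nat.beq (T.walk i xw) i)

/-- The cycles of the word on the first orbit and the searches. -/
def cycOk (ls : List Level) (xw : List ℕ) (p : ℕ) (cyc : List (List ℕ)) : Bool :=
  let l := ls.getD 0 ⟨0, [], [], []⟩
  let m := ls.length
  xw.all (fun g => Nat.blt g T.ng) && Nat.beq (T.walk 0 xw) 0 &&
    Nat.blt 0 m && Nat.ble m p && Nat.blt 1 p && Nat.blt 0 cyc.length &&
    cyc.all (fun c => decide (c.length = p) && (List.range p).all fun i =>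
      Nat.beq (T.walk (c.getD i 0) xw) (c.getD ((i + 1) % p) 0)) &&
    l.pts.all (fun q => cyc.any fun c => c.contains q) &&
    decide ((cyc.getD 0 []).take m = ls.map Level.base) &&
    decide ((cyc.getD 0 []).getD 0 0 ≠ (cyc.getD 0 []).getD 1 0) &&
    (List.range (cyc.length - 1)).all (fun j => noElement T ls ((cyc.getD (j + 1) []).take m))

variable {T}

variable {M : Type*} [Group M] [Finite M] {gen : ℕ → M} {φ : M →* Equiv.Perm (Fin T.n)}

/-- The certified element has prime order and is self-centralising. -/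
theorem selfCent (R : Realised gen T φ) (hinv : ∀ g, g < T.ng → gen g * gen g = 1)
    {ls : List Level} {xw : List ℕ} {p : ℕ} (hp : p.Prime) {cyc : List (List ℕ)}
    (hls : levelsOk T [0] ls = true)
    (hle : Nat.card (fixSub φ [0]) ≤ (ls.map fun l => l.pts.length).prod)
    (hbot : fixSub φ ([0] ++ ls.map Level.base) = ⊥)
    (hcyc : cycOk T ls xw p cyc = true)
    (hmove : ∀ b, 1000 * b < T.n → moveBlock T xw b = true) :
    orderOf (act gen xw) = p ∧
      ∀ g : M, g * act gen xw = act gen xw * g → g ∈ Subgroup.zpowers (act gen xw) := by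
  simp only [cycOk, Bool.and_eq_true, List.all_eq_true, decide_eq_true_eq, List.mem_range,
    Nat.beq_eq, Nat.blt_eq, Nat.ble_eq, List.any_eq_true, List.contains_iff_mem] at hcyc
  obtain ⟨⟨⟨⟨⟨⟨⟨⟨⟨⟨hxlt, hx0⟩, hm0⟩, hmp⟩, hp1⟩, hc0'⟩, hcs⟩, hcov⟩, htake⟩, hne⟩, hno⟩ := hcyc
  set x := act gen xw with hxdef
  have hp0 : 0 < p := hp.pos
  have hxapp : ∀ i : Fin T.n, ((φ x i : Fin T.n) : ℕ) = T.walk i.val xw := R.act_apply hxlt
  have hcycle : ∀ {c : List ℕ}, c ∈ cyc → ∀ (k i : ℕ), i < p → ∀ q : Fin T.n,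
      q.val = c.getD i 0 → ((φ (x ^ k) q : Fin T.n) : ℕ) = c.getD ((i + k) % p) 0 := by
    intro c hc k
    induction k with
    | zero => intro i hi q hq; simpa [Nat.mod_eq_of_lt hi] using hq
    | succ k ih =>
      intro i hi q hq
      rw [pow_succ', map_mul, Equiv.Perm.mul_apply, hxapp, ih i hi q hq,
        (hcs c hc).2 _ (Nat.mod_lt _ hp0), Nat.mod_add_mod, Nat.add_assoc]
  have hxmem : x ∈ fixSub φ [0] := fun i hi => Fin.ext (by
    rw [hxapp, List.mem_singleton.1 hi, hx0])
  have hfix : ∀ {i : Fin T.n}, φ x i = i → i.val = 0 := by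
    intro i h
    by_contra h0
    have hb := hmove (i.val / 1000) (by have := i.isLt; omega)
    simp only [moveBlock, List.all_eq_true, List.mem_range, Bool.or_eq_true,
      Bool.not_eq_true'] at hb
    have h' := hb (i.val % 1000) (Nat.mod_lt _ (by norm_num))
    rw [Nat.div_add_mod] at h'
    rcases h' with (h1 | h1) | h1
    · have : Nat.blt i.val T.n = true := by rw [Nat.blt_eq]; exact i.isLt
      rw [this] at h1
      exact Bool.noConfusion h1
    · rw [Nat.beq_eq] at h1
      exact h0 h1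
    · rw [← hxapp, h] at h1
      simp at h1
  have hc0 : cyc.getD 0 [] ∈ cyc := by
    rw [List.getD_eq_getElem _ _ hc0']; exact List.getElem_mem _
  have hc0len := (hcs _ hc0).1
  obtain ⟨l, ls', hl⟩ : ∃ l ls', ls = l :: ls' := by
    cases h : ls with
    | nil => rw [h] at hm0; simp at hm0
    | cons a b => exact ⟨a, b, rfl⟩
  have hl0 : ls.getD 0 ⟨0, [], [], []⟩ = l := by rw [hl]; rfl
  have hok := hls
  rw [hl] at hok
  simp only [levelsOk, levelOk, Bool.and_eq_true, List.all_eq_true, decide_eq_true_eq,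
    Nat.blt_eq] at hok
  obtain ⟨⟨⟨⟨⟨⟨-, hhead⟩, -⟩, -⟩, hlt⟩, -⟩, -⟩ := hok
  have hlb : l.base < T.n := hlt _ (List.mem_of_mem_head? hhead)
  have hb0 : (cyc.getD 0 []).getD 0 0 = l.base := by
    have e := congrArg (fun L : List ℕ => L.getD 0 0) htake
    simp only [hl, List.map_cons, List.getD_cons_zero, List.length_cons] at e
    rw [← e]
    cases cyc.getD 0 [] <;> simp
  have hxne : x ≠ 1 := fun h => hne (by
    have e := hcycle hc0 1 0 hp0 ⟨l.base, hlb⟩ hb0.symm
    rw [pow_one, h, map_one, Equiv.Perm.one_apply, Nat.zero_add, Nat.mod_eq_of_lt hp1] at e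
    rw [← e, hb0])
  have hxpow : x ^ p = 1 := by
    have hmem : x ^ p ∈ fixSub φ ([0] ++ ls.map Level.base) := by
      intro i hi
      rcases List.mem_append.1 hi with hi | hi
      · exact Subgroup.pow_mem _ hxmem p i hi
      · rw [← htake] at hi
        obtain ⟨k, hk, e⟩ := List.getElem_of_mem (List.mem_of_mem_take hi)
        have hkp : k < p := hc0len ▸ hk
        refine Fin.ext ?_
        rw [hcycle hc0 p k hkp i (by rw [List.getD_eq_getElem _ _ hk, e]),
          Nat.add_mod_right, Nat.mod_eq_of_lt hkp, List.getD_eq_getElem _ _ hk, e]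
    rw [hbot, Subgroup.mem_bot] at hmem
    exact hmem
  haveI : Fact p.Prime := ⟨hp⟩
  refine ⟨orderOf_eq_prime hxpow hxne, fun g hg => ?_⟩
  have hg0 : g ∈ fixSub φ [0] := by
    intro i hi
    have hi0 : i.val = 0 := List.mem_singleton.1 hi
    refine Fin.ext (hfix (i := φ g i) ?_ |>.trans hi0.symm)
    rw [← Equiv.Perm.mul_apply, ← map_mul, ← hg, map_mul, Equiv.Perm.mul_apply, hxmem i hi]
  obtain ⟨hmem, -⟩ := orbit_exact R hls hle g hg0 l ls' hl ⟨l.base, hlb⟩ rfl
  obtain ⟨c, hc, hpc⟩ := hcov _ (by rw [hl0]; exact hmem)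
  obtain ⟨k, hk, hck⟩ := List.getElem_of_mem hpc
  have hkp : k < p := (hcs c hc).1 ▸ hk
  set m := x ^ (p - k) * g with hm
  have hcomm : ∀ a : ℕ, m * x ^ a = x ^ a * m := fun a => by
    rw [hm, mul_assoc, (Commute.pow_right hg a).eq, ← mul_assoc, ← pow_add, Nat.add_comm, pow_add,
      mul_assoc]
  have hmfix : m ∈ fixSub φ [0] := Subgroup.mul_mem _ (Subgroup.pow_mem _ hxmem _) hg0
  have himg : ∀ a < p, ∀ i : Fin T.n, i.val = (cyc.getD 0 []).getD a 0 →
      ((φ m i : Fin T.n) : ℕ) = c.getD a 0 := by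
    intro a ha i hi
    have hi' : i = φ (x ^ a) ⟨l.base, hlb⟩ := by
      refine Fin.ext ?_
      rw [hi, hcycle hc0 a 0 hp0 ⟨l.base, hlb⟩ hb0.symm, Nat.zero_add, Nat.mod_eq_of_lt ha]
    rw [hi', ← Equiv.Perm.mul_apply, ← map_mul, hcomm a, hm, ← mul_assoc, ← pow_add, map_mul,
      Equiv.Perm.mul_apply, hcycle hc _ k hkp _ (by rw [List.getD_eq_getElem _ _ hk, hck]),
      show k + (a + (p - k)) = a + p by omega, Nat.add_mod_right, Nat.mod_eq_of_lt ha]
  obtain ⟨j, hj, hcj⟩ := List.getElem_of_mem hc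
  rcases j with _ | j
  · have hm1 : m ∈ fixSub φ ([0] ++ ls.map Level.base) := by
      intro i hi
      rcases List.mem_append.1 hi with hi | hi
      · exact hmfix i hi
      · rw [← htake] at hi
        obtain ⟨a, ha, e⟩ := List.getElem_of_mem (List.mem_of_mem_take hi)
        refine Fin.ext ?_
        rw [himg a (hc0len ▸ ha) i (by rw [List.getD_eq_getElem _ _ ha, e]), ← hcj,
          ← List.getD_eq_getElem _ [] hj, List.getD_eq_getElem _ _ ha, e]
    rw [hbot, Subgroup.mem_bot, hm] at hm1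
    rw [eq_inv_of_mul_eq_one_right hm1]
    exact Subgroup.inv_mem _ (Subgroup.npow_mem_zpowers _ _)
  · exfalso
    have hno' := hno j (by omega)
    rw [List.getD_eq_getElem _ _ hj, hcj] at hno'
    refine noElement_sound R hinv hls hle hno' m hmfix ?_
    have hclen := (hcs c hc).1
    have htl : (c.take ls.length).length = ls.length := by rw [List.length_take, hclen]; omega
    rw [List.forall₂_iff_get]
    refine ⟨by rw [List.length_take, List.length_map, htl, Nat.min_self], fun a h1 h2 i hi => ?_⟩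
    have ha : a < ls.length := htl ▸ h2
    simp only [List.get_eq_getElem, List.getElem_take] at hi ⊢
    rw [← List.getD_eq_getElem c 0 (by omega)]
    refine himg a (by omega) i ?_
    rw [hi]
    have e := congrArg (fun L : List ℕ => L.getD a 0) htake
    rw [List.getD_eq_getElem (l := ls.map Level.base) 0 (by simpa using ha)] at e
    rw [← e]
    simp [List.getD_eq_getElem?_getD, List.getElem?_take_of_lt ha]

/-- A perfect transitive group with a self-centralising element of prime order `p` is simple, as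
soon as the order allows no normal subgroup of order prime to `p` with orbits as long as a nontrivial
orbit of the point stabiliser. -/
theorem simple_of {φ : M →* Equiv.Perm (Fin T.n)} (hinj : Function.Injective φ)
    (htrans : ∀ i j : Fin T.n, ∃ m, φ m i = j) {p : ℕ} (hp : p.Prime) {x : M}
    (hx : orderOf x = p) (hcent : ∀ g : M, g * x = x * g → g ∈ Subgroup.zpowers x)
    (hsq : ¬ p ^ 2 ∣ Nat.card M) (hperf : commutator M = ⊤) (z : Fin T.n) (B : ℕ)
    (hdiv : ∀ d, d ∣ Nat.card M → ¬ p ∣ d →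
      (∀ q : ℕ, q.Prime → q ^ d.factorization q % p = 1) → Nat.gcd d T.n < B)
    (hbig : ∀ i : Fin T.n, i ≠ z →
      B ≤ {j : Fin T.n | ∃ m : M, φ m z = z ∧ φ m i = j}.ncard) :
    IsSimpleGroup M := by
  haveI : Fact p.Prime := ⟨hp⟩
  refine Golay.SimpleCrit.isSimple hx hcent hsq hperf fun N hN hpN => ?_
  haveI := hN
  have key : ∀ q : ℕ, q.Prime → q ^ (Nat.card N).factorization q % p = 1 := fun q hq => by
    haveI := Fact.mk hq
    have h := Golay.SimpleCrit.part_modEq hx hcent hpN (q := q)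
    rwa [Nat.ModEq, Nat.mod_eq_of_lt hp.one_lt] at h
  have hd := hdiv _ (Subgroup.card_subgroup_dvd_card N) hpN key
  letI : MulAction N (Fin T.n) := MulAction.compHom _ (φ.comp N.subtype)
  have hsame : ∀ i : Fin T.n,
      Nat.card (MulAction.orbit N i) = Nat.card (MulAction.orbit N z) := by
    intro i
    obtain ⟨m, hm⟩ := htrans z i
    refine Nat.card_congr ((Equiv.subtypeEquiv (φ m) fun a => ?_).symm)
    constructor
    · rintro ⟨v, rfl⟩
      refine ⟨⟨m * v.val * m⁻¹, hN.conj_mem _ v.2 m⟩, ?_⟩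
      show φ (m * v.val * m⁻¹) i = φ m (φ v.val z)
      rw [map_mul, map_mul, Equiv.Perm.mul_apply, Equiv.Perm.mul_apply, map_inv,
        Equiv.Perm.inv_def, (Equiv.symm_apply_eq _).2 hm.symm]
    · rintro ⟨v, hv⟩
      refine ⟨⟨m⁻¹ * v.val * m⁻¹⁻¹, hN.conj_mem _ v.2 m⁻¹⟩, ?_⟩
      have hv' : φ v.val i = φ m a := hv
      show φ (m⁻¹ * v.val * m⁻¹⁻¹) z = a
      rw [inv_inv, map_mul, map_mul, Equiv.Perm.mul_apply, Equiv.Perm.mul_apply, hm, hv', map_inv,
        Equiv.Perm.inv_def, Equiv.symm_apply_apply]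
  have hdn : Nat.card (MulAction.orbit N z) ∣ T.n := by
    have h := Nat.card_congr (MulAction.selfEquivSigmaOrbits' N (Fin T.n))
    classical
    rw [Nat.card_fin, Nat.card_sigma, Finset.sum_congr rfl
      (g := fun _ => Nat.card (MulAction.orbit N z)) fun q _ => ?_, Finset.sum_const,
      smul_eq_mul] at h
    · exact ⟨_, h.trans (mul_comm _ _)⟩
    · obtain ⟨i, rfl⟩ := Quotient.exists_rep q
      rw [← hsame i]
      rfl
  have hdN : Nat.card (MulAction.orbit N z) ∣ Nat.card N := by
    have := Nat.card_congr (MulAction.orbitProdStabilizerEquivGroup N z)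
    rw [Nat.card_prod] at this
    exact ⟨_, this.symm⟩
  have hle : Nat.card (MulAction.orbit N z) < B := lt_of_le_of_lt
    (Nat.le_of_dvd (Nat.gcd_pos_of_pos_left _ Nat.card_pos) (Nat.dvd_gcd hdN hdn)) hd
  have hfix : ∀ v : N, φ v.val z = z := by
    intro v
    by_contra hv
    refine absurd (le_trans (hbig _ hv) ?_) (Nat.not_le_of_lt hle)
    rw [Nat.card_coe_set_eq]
    refine Set.ncard_le_ncard ?_ (Set.toFinite _)
    rintro _ ⟨u, hu, rfl⟩
    refine ⟨⟨u * v.val * u⁻¹, hN.conj_mem _ v.2 u⟩, ?_⟩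
    show φ (u * v.val * u⁻¹) z = _
    rw [map_mul, map_mul, Equiv.Perm.mul_apply, Equiv.Perm.mul_apply, map_inv,
      Equiv.Perm.inv_def, (Equiv.symm_apply_eq _).2 hu.symm]
  rw [eq_bot_iff]
  intro v hv
  refine Subgroup.mem_bot.2 (hinj ?_)
  rw [map_one]
  refine Equiv.ext fun i => ?_
  obtain ⟨m, hm⟩ := htrans z i
  have h := hfix ⟨m⁻¹ * v * m⁻¹⁻¹, hN.conj_mem _ hv m⁻¹⟩
  simp only [inv_inv, map_mul, Equiv.Perm.mul_apply, hm, map_inv, Equiv.Perm.inv_def,
    Equiv.symm_apply_eq] at h
  rw [h, Equiv.Perm.one_apply]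

end CfsgLib.PresCert
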